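/-
The Chermak-Delgado measure, centrally large subgroups and abelian subgroups of largest order.
-/
import Mathlib
import Cfsg.Prelude.Def_BaumannBlocks
import Cfsg.Agent.Lib.LocalEvenSix.Lattice
import Cfsg.Agent.Lib.Coprime.Basic

set_option autoImplicit false

open Cfsg

namespace CfsgLib.ChermakDelgado

open Pointwise
open scoped commutatorElement

variable {G : Type*} [Group G] [Finite G]

local notation:max "𝐂(" R ")" => Subgroup.centralizer (SetLike.coe R)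

omit [Finite G] in
lemma cent_mono {A B : Subgroup G} (h : A ≤ B) : 𝐂(B) ≤ 𝐂(A) :=
  Subgroup.centralizer_le (SetLike.coe_subset_coe.2 h)

omit [Finite G] in
lemma centralizer_sup (A B : Subgroup G) : 𝐂(A ⊔ B) = 𝐂(A) ⊓ 𝐂(B) := by
  refine le_antisymm (le_inf (cent_mono le_sup_left) (cent_mono le_sup_right)) ?_
  rw [Subgroup.le_centralizer_iff]
  exact sup_le (Subgroup.le_centralizer_iff.1 inf_le_left) (Subgroup.le_centralizer_iff.1 inf_le_right)

omit [Finite G] in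
lemma le_centralizer_centralizer (R : Subgroup G) : R ≤ 𝐂(𝐂(R)) := Subgroup.le_centralizer_iff.1 le_rfl

omit [Finite G] in
lemma comm_iff (A : Subgroup G) : IsMulCommutative A ↔ A ≤ 𝐂(A) :=
  Subgroup.le_centralizer_iff_isMulCommutative.symm

omit [Finite G] in
lemma comm_sup {A B : Subgroup G} (hA : A ≤ 𝐂(A)) (hB : B ≤ 𝐂(B)) (hAB : A ≤ 𝐂(B)) : A ⊔ B ≤ 𝐂(A ⊔ B) := by
  rw [centralizer_sup]
  exact sup_le (le_inf hA hAB) (le_inf (Subgroup.le_centralizer_iff.1 hAB) hB)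

omit [Finite G] in
lemma zpowers_le_centralizer {x : G} {A : Subgroup G} (h : x ∈ 𝐂(A)) : Subgroup.zpowers x ≤ 𝐂(A) :=
  (Subgroup.zpowers_le).2 h

omit [Finite G] in
lemma zpowers_comm (x : G) : Subgroup.zpowers x ≤ 𝐂(Subgroup.zpowers x) :=
  (comm_iff _).1 inferInstance

lemma mem_centralizer_commute {A : Subgroup G} {x a : G} (hx : x ∈ 𝐂(A)) (ha : a ∈ A) : Commute x a :=
  (Subgroup.mem_centralizer_iff.1 hx a ha).symm

lemma card_le_of_le' {A B : Subgroup G} (h : A ≤ B) : Nat.card A ≤ Nat.card B := Subgroup.card_le_of_le h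

/-! ### Products -/

lemma coe_sup_eq_mul {A B : Subgroup G}
    (h : Nat.card ↥(A ⊔ B) * Nat.card ↥(A ⊓ B) ≤ Nat.card A * Nat.card B) :
    ((A ⊔ B : Subgroup G) : Set G) = (A : Set G) * (B : Set G) := by
  have h1 := CfsgLib.LocalEvenSix.card_mul_relIndex' (le_sup_left : A ≤ A ⊔ B)
  have h2 := CfsgLib.LocalEvenSix.card_mul_relIndex' (inf_le_right : A ⊓ B ≤ B)
  rw [Subgroup.inf_relIndex_right] at h2
  have hfin : A.relIndex (A ⊔ B) ≠ 0 := Subgroup.FiniteIndex.index_ne_zero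
  have h3 : A.relIndex B ≤ A.relIndex (A ⊔ B) := Subgroup.relIndex_le_of_le_right le_sup_right hfin
  have h4 : A.relIndex (A ⊔ B) ≤ A.relIndex B := by
    rw [← h1, ← h2] at h
    have hpos : 0 < Nat.card A * Nat.card ↥(A ⊓ B) := Nat.mul_pos Nat.card_pos Nat.card_pos
    refine Nat.le_of_mul_le_mul_left ?_ hpos
    calc Nat.card A * Nat.card ↥(A ⊓ B) * A.relIndex (A ⊔ B)
        = Nat.card A * A.relIndex (A ⊔ B) * Nat.card ↥(A ⊓ B) := by ring
      _ ≤ Nat.card A * (Nat.card ↥(A ⊓ B) * A.relIndex B) := h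
      _ = _ := by ring
  refine Set.Subset.antisymm (fun g hg => ?_) ?_
  · obtain ⟨b, hb, a, ha, e⟩ := CfsgLib.LocalEvenSix.exists_mul_of_relIndex_eq_index
      (A.subgroupOf (A ⊔ B)) (B.subgroupOf (A ⊔ B))
      (by rw [Subgroup.relIndex_subgroupOf le_sup_right]; exact le_antisymm h3 h4)
      (⟨g, hg⟩⁻¹ : ↥(A ⊔ B))
    refine ⟨(a : G)⁻¹, A.inv_mem ha, (b : G)⁻¹, B.inv_mem hb, ?_⟩
    have e' : g⁻¹ = (b : G) * (a : G) := congrArg Subtype.val e
    show (a : G)⁻¹ * (b : G)⁻¹ = g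
    rw [← mul_inv_rev, ← e', inv_inv]
  · rintro _ ⟨a, ha, b, hb, rfl⟩
    exact Subgroup.mul_mem_sup ha hb

/-! ### Large subgroups -/

lemma le_maxCentralizerProduct (R : Subgroup G) :
    Nat.card R * Nat.card 𝐂(R) ≤ maxCentralizerProduct G :=
  le_csSup (Set.finite_range (fun X : Subgroup G => Nat.card X * Nat.card 𝐂(X))).bddAbove ⟨R, rfl⟩

lemma le_maxCentralProduct (R : Subgroup G) :
    Nat.card R * Nat.card (Subgroup.center R) ≤ maxCentralProduct G :=
  le_csSup (Set.finite_range (fun X : Subgroup G => Nat.card X * Nat.card (Subgroup.center X))).bddAbove ⟨R, rfl⟩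

variable (G) in
lemma exists_centralizerLarge : ∃ R : Subgroup G, IsCentralizerLarge R :=
  Nat.sSup_mem (s := Set.range fun X : Subgroup G => Nat.card X * Nat.card 𝐂(X)) (Set.range_nonempty _)
    (Set.finite_range _).bddAbove

variable (G) in
lemma exists_centrallyLarge : ∃ R : Subgroup G, IsCentrallyLarge R :=
  Nat.sSup_mem (s := Set.range fun X : Subgroup G => Nat.card X * Nat.card (Subgroup.center X)) (Set.range_nonempty _)
    (Set.finite_range _).bddAbove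

lemma large_of_ge {R : Subgroup G} {n : ℕ} (hn : n = maxCentralizerProduct G)
    (h : n ≤ Nat.card R * Nat.card 𝐂(R)) : IsCentralizerLarge R :=
  le_antisymm (le_maxCentralizerProduct R) (hn ▸ h)

lemma large_eq {Q R : Subgroup G} (hQ : IsCentralizerLarge Q) (hR : IsCentralizerLarge R) :
    Nat.card Q * Nat.card 𝐂(Q) = Nat.card R * Nat.card 𝐂(R) := Eq.trans hQ (Eq.symm hR)

/-- The lattice property. -/
lemma large_pair {Q R : Subgroup G} (hQ : IsCentralizerLarge Q) (hR : IsCentralizerLarge R) :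
    IsCentralizerLarge (Q ⊔ R) ∧ IsCentralizerLarge (Q ⊓ R) ∧
      Nat.card ↥(Q ⊔ R) * Nat.card ↥(Q ⊓ R) = Nat.card Q * Nat.card R ∧
      𝐂(Q ⊓ R) = 𝐂(Q) ⊔ 𝐂(R) := by
  have h1 := CfsgLib.LocalEvenSix.card_mul_card_le Q R
  have h2 := CfsgLib.LocalEvenSix.card_mul_card_le 𝐂(Q) 𝐂(R)
  have hsub : 𝐂(Q) ⊔ 𝐂(R) ≤ 𝐂(Q ⊓ R) :=
    sup_le (cent_mono inf_le_left) (cent_mono inf_le_right)
  have h3 := card_le_of_le' hsub
  rw [← centralizer_sup] at h2
  have hm1 := le_maxCentralizerProduct (Q ⊔ R)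
  have hm2 := le_maxCentralizerProduct (Q ⊓ R)
  set f := maxCentralizerProduct G
  have hf : 0 < f := (show _ = f from hQ) ▸ Nat.mul_pos Nat.card_pos Nat.card_pos
  set a := Nat.card ↥(Q ⊔ R)
  set b := Nat.card ↥(Q ⊓ R)
  set a' := Nat.card 𝐂(Q ⊔ R)
  set b' := Nat.card 𝐂(Q ⊓ R)
  set s := Nat.card ↥(𝐂(Q) ⊔ 𝐂(R))
  have hff : f * f = (Nat.card Q * Nat.card R) * (Nat.card 𝐂(Q) * Nat.card 𝐂(R)) := by
    calc f * f = (Nat.card Q * Nat.card 𝐂(Q)) * (Nat.card R * Nat.card 𝐂(R)) := by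
          rw [show _ = f from hQ, show _ = f from hR]
      _ = _ := by ring
  have hchain : f * f ≤ (a * b) * (s * a') := hff ▸ Nat.mul_le_mul h1 h2
  have hchain2 : (a * b) * (s * a') ≤ (a * b) * (b' * a') := Nat.mul_le_mul_left _ (Nat.mul_le_mul_right _ h3)
  have heq : (a * b) * (b' * a') = (a * a') * (b * b') := by ring
  have hA : a * a' = f := by
    by_contra h
    have : (a * a') * (b * b') < f * f :=
      Nat.mul_lt_mul_of_lt_of_le (lt_of_le_of_ne hm1 h) hm2 hf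
    omega
  have hB : b * b' = f := by
    by_contra h
    have : (a * a') * (b * b') < f * f :=
      Nat.mul_lt_mul_of_le_of_lt hm1 (lt_of_le_of_ne hm2 h) hf
    omega
  have hall : (a * b) * (b' * a') = f * f := by rw [heq, hA, hB]
  have ha'b' : 0 < b' * a' := Nat.mul_pos Nat.card_pos Nat.card_pos
  refine ⟨hA, hB, ?_, ?_⟩
  · refine le_antisymm ?_ h1
    refine Nat.le_of_mul_le_mul_right (c := b' * a') ?_ ha'b'
    rw [hall, hff]
    exact Nat.mul_le_mul_left _ (h2.trans (Nat.mul_le_mul_right _ h3))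
  · refine (Subgroup.eq_of_le_of_card_ge hsub ?_).symm
    have hab : 0 < a * b := Nat.mul_pos Nat.card_pos Nat.card_pos
    have : (a * b) * (b' * a') ≤ (a * b) * (s * a') := hall ▸ hchain
    exact Nat.le_of_mul_le_mul_right (Nat.le_of_mul_le_mul_left this hab) Nat.card_pos

lemma large_sup {Q R : Subgroup G} (hQ : IsCentralizerLarge Q) (hR : IsCentralizerLarge R) :
    IsCentralizerLarge (Q ⊔ R) := (large_pair hQ hR).1

lemma large_inf {Q R : Subgroup G} (hQ : IsCentralizerLarge Q) (hR : IsCentralizerLarge R) :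
    IsCentralizerLarge (Q ⊓ R) := (large_pair hQ hR).2.1

lemma centralizer_inf {Q R : Subgroup G} (hQ : IsCentralizerLarge Q) (hR : IsCentralizerLarge R) :
    𝐂(Q ⊓ R) = 𝐂(Q) ⊔ 𝐂(R) := (large_pair hQ hR).2.2.2

lemma coe_sup {Q R : Subgroup G} (hQ : IsCentralizerLarge Q) (hR : IsCentralizerLarge R) :
    ((Q ⊔ R : Subgroup G) : Set G) = (Q : Set G) * (R : Set G) :=
  coe_sup_eq_mul (large_pair hQ hR).2.2.1.le

lemma mem_sup_large {Q R : Subgroup G} (hQ : IsCentralizerLarge Q) (hR : IsCentralizerLarge R) {g : G}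
    (hg : g ∈ Q ⊔ R) : ∃ a ∈ Q, ∃ b ∈ R, g = a * b := by
  rw [← SetLike.mem_coe, coe_sup hQ hR, Set.mem_mul] at hg
  obtain ⟨a, ha, b, hb, e⟩ := hg
  exact ⟨a, ha, b, hb, e.symm⟩

lemma large_centralizer {Q : Subgroup G} (hQ : IsCentralizerLarge Q) :
    IsCentralizerLarge 𝐂(Q) ∧ 𝐂(𝐂(Q)) = Q := by
  have h1 : Nat.card Q * Nat.card 𝐂(Q) ≤ Nat.card 𝐂(Q) * Nat.card 𝐂(𝐂(Q)) := by
    rw [mul_comm]; exact Nat.mul_le_mul_left _ (card_le_of_le' (le_centralizer_centralizer Q))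
  have hl : IsCentralizerLarge 𝐂(Q) := large_of_ge (Eq.symm hQ).symm h1
  refine ⟨hl, (Subgroup.eq_of_le_of_card_ge (le_centralizer_centralizer Q) ?_).symm⟩
  have := large_eq hl hQ
  rw [mul_comm (Nat.card Q)] at this
  exact (Nat.eq_of_mul_eq_mul_left Nat.card_pos this).le

lemma large_sSup {s : Set (Subgroup G)} (hne : s.Nonempty) (h : ∀ R ∈ s, IsCentralizerLarge R) :
    IsCentralizerLarge (sSup s) := by
  obtain ⟨M, ⟨hM, hMs⟩, hMmax⟩ := (inferInstance : WellFoundedGT (Subgroup G)).wf.has_min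
    {M : Subgroup G | IsCentralizerLarge M ∧ M ≤ sSup s} ⟨hne.some, h _ hne.some_mem, le_sSup hne.some_mem⟩
  have hle : sSup s ≤ M := sSup_le fun R hR => by
    by_contra hcon
    exact hMmax (M ⊔ R) ⟨large_sup hM (h R hR), sup_le hMs (le_sSup hR)⟩ (left_lt_sup.2 hcon)
  rwa [le_antisymm hle hMs]

lemma large_sInf {s : Set (Subgroup G)} (hne : s.Nonempty) (h : ∀ R ∈ s, IsCentralizerLarge R) :
    IsCentralizerLarge (sInf s) := by
  obtain ⟨M, ⟨hM, hMs⟩, hMmin⟩ := (inferInstance : WellFoundedLT (Subgroup G)).wf.has_min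
    {M : Subgroup G | IsCentralizerLarge M ∧ sInf s ≤ M} ⟨hne.some, h _ hne.some_mem, sInf_le hne.some_mem⟩
  have hle : M ≤ sInf s := le_sInf fun R hR => by
    by_contra hcon
    exact hMmin (M ⊓ R) ⟨large_inf hM (h R hR), le_inf hMs (sInf_le hR)⟩ (inf_lt_left.2 hcon)
  rwa [← le_antisymm hle hMs]

/-! ### Centrally large subgroups -/

omit [Finite G] in
lemma card_center (R : Subgroup G) : Nat.card (Subgroup.center R) = Nat.card ↥(R ⊓ 𝐂(R)) := by
  rw [← Subgroup.card_subtype R (Subgroup.center R)]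
  congr 2
  ext z
  constructor
  · rintro ⟨a, ha, rfl⟩
    exact ⟨a.2, Subgroup.mem_centralizer_iff.2 fun b hb => congrArg Subtype.val (Subgroup.mem_center_iff.1 ha ⟨b, hb⟩)⟩
  · rintro ⟨hz, hc⟩
    exact ⟨⟨z, hz⟩, Subgroup.mem_center_iff.2 fun b => Subtype.ext (Subgroup.mem_centralizer_iff.1 hc _ b.2), rfl⟩

variable (G) in
lemma maxCentralProduct_eq : maxCentralProduct G = maxCentralizerProduct G := by
  obtain ⟨R, hR⟩ := exists_centralizerLarge G
  obtain ⟨X, hX⟩ := exists_centrallyLarge G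
  refine le_antisymm ?_ ?_
  · rw [← show _ = maxCentralProduct G from hX, card_center]
    exact le_trans (Nat.mul_le_mul_left _ (card_le_of_le' inf_le_right)) (le_maxCentralizerProduct X)
  · rw [← show _ = maxCentralizerProduct G from hR]
    refine le_trans ?_ (le_maxCentralProduct (R ⊔ 𝐂(R)))
    rw [card_center]
    refine (CfsgLib.LocalEvenSix.card_mul_card_le R 𝐂(R)).trans (Nat.mul_le_mul_left _ (card_le_of_le' ?_))
    refine le_inf (inf_le_left.trans le_sup_left) ?_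
    rw [centralizer_sup]
    exact le_inf inf_le_right (inf_le_left.trans (le_centralizer_centralizer R))

lemma centrallyLarge_iff (R : Subgroup G) : IsCentrallyLarge R ↔ IsCentralizerLarge R ∧ 𝐂(R) ≤ R := by
  unfold IsCentrallyLarge
  rw [maxCentralProduct_eq, card_center]
  constructor
  · intro h
    have h1 : IsCentralizerLarge R :=
      large_of_ge rfl (h ▸ Nat.mul_le_mul_left _ (card_le_of_le' inf_le_right))
    refine ⟨h1, ?_⟩
    have h2 := Nat.eq_of_mul_eq_mul_left Nat.card_pos (h.trans (Eq.symm h1))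
    exact inf_eq_right.1 (Subgroup.eq_of_le_of_card_ge inf_le_right h2.ge)
  · rintro ⟨h1, h2⟩
    rw [inf_eq_right.2 h2]
    exact h1

lemma cl_large {R : Subgroup G} (h : IsCentrallyLarge R) : IsCentralizerLarge R := ((centrallyLarge_iff R).1 h).1
lemma cl_le {R : Subgroup G} (h : IsCentrallyLarge R) : 𝐂(R) ≤ R := ((centrallyLarge_iff R).1 h).2

lemma cl_centralizer_comm {R : Subgroup G} (h : IsCentrallyLarge R) : 𝐂(R) ≤ 𝐂(𝐂(R)) :=
  (cl_le h).trans (le_centralizer_centralizer R)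

lemma cl_of_le {Q R : Subgroup G} (hQ : IsCentrallyLarge Q) (hR : IsCentralizerLarge R) (h : Q ≤ R) :
    IsCentrallyLarge R :=
  (centrallyLarge_iff R).2 ⟨hR, (cent_mono h).trans ((cl_le hQ).trans h)⟩

lemma cl_sup {Q R : Subgroup G} (hQ : IsCentrallyLarge Q) (hR : IsCentrallyLarge R) : IsCentrallyLarge (Q ⊔ R) :=
  cl_of_le hQ (large_sup (cl_large hQ) (cl_large hR)) le_sup_left

lemma cl_sSup {s : Set (Subgroup G)} (hne : s.Nonempty) (h : ∀ R ∈ s, IsCentrallyLarge R) :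
    IsCentrallyLarge (sSup s) :=
  cl_of_le (h _ hne.some_mem) (large_sSup hne fun R hR => cl_large (h R hR)) (le_sSup hne.some_mem)

lemma cl_of_abelianLarge {U : Subgroup G} (hU : IsCentralizerLarge U) (hab : U ≤ 𝐂(U)) :
    IsCentrallyLarge 𝐂(U) := by
  refine (centrallyLarge_iff _).2 ⟨(large_centralizer hU).1, ?_⟩
  rw [(large_centralizer hU).2]
  exact hab

lemma exists_minimalCL_le {R : Subgroup G} (hR : IsCentrallyLarge R) :
    ∃ Q : Subgroup G, IsMinimalCentrallyLarge Q ∧ Q ≤ R := by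
  obtain ⟨Q, ⟨hQ, hQR⟩, hmin⟩ := (inferInstance : WellFoundedLT (Subgroup G)).wf.has_min
    {Q : Subgroup G | IsCentrallyLarge Q ∧ Q ≤ R} ⟨R, hR, le_rfl⟩
  refine ⟨Q, ⟨hQ, fun Q' hle h' => ?_⟩, hQR⟩
  by_contra hne
  exact hmin Q' ⟨h', hle.trans hQR⟩ (lt_of_le_of_ne hle hne)

variable (G) in
lemma exists_minimalCL : ∃ Q : Subgroup G, IsMinimalCentrallyLarge Q := by
  obtain ⟨R, hR⟩ := exists_centrallyLarge G
  obtain ⟨Q, hQ, -⟩ := exists_minimalCL_le hR
  exact ⟨Q, hQ⟩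

lemma cl_minimalJoin : IsCentrallyLarge (minimalCentrallyLargeJoin G) :=
  cl_sSup (exists_minimalCL G) fun _ h => h.1

lemma cl_join : IsCentrallyLarge (centrallyLargeJoin G) :=
  cl_sSup (exists_centrallyLarge G) fun _ h => h

/-! ### Abelian subgroups of largest order -/

lemma comm_of_maxAb {A : Subgroup G} (hA : A ∈ maxAbelianSubgroups G) : A ≤ 𝐂(A) := (comm_iff A).1 hA.1

lemma card_le_maxAb {A B : Subgroup G} (hA : A ∈ maxAbelianSubgroups G) (hB : B ≤ 𝐂(B)) :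
    Nat.card B ≤ Nat.card A := hA.2 B ((comm_iff B).2 hB)

lemma centralizer_maxAb {A : Subgroup G} (hA : A ∈ maxAbelianSubgroups G) : 𝐂(A) = A := by
  refine le_antisymm (fun x hx => ?_) (comm_of_maxAb hA)
  have h := comm_sup (comm_of_maxAb hA) (zpowers_comm x)
    (Subgroup.le_centralizer_iff.1 (zpowers_le_centralizer hx))
  have h2 := Subgroup.eq_of_le_of_card_ge (le_sup_left : A ≤ A ⊔ Subgroup.zpowers x) (card_le_maxAb hA h)
  rw [h2]
  exact Subgroup.mem_sup_right (Subgroup.mem_zpowers x)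

variable (G) in
lemma exists_maxAb : ∃ A : Subgroup G, A ∈ maxAbelianSubgroups G := by
  obtain ⟨A, hA, hmax⟩ := Set.exists_max_image {A : Subgroup G | IsMulCommutative A} (fun A => Nat.card A)
    (Set.toFinite _) ⟨⊥, (inferInstance : IsMulCommutative (⊥ : Subgroup G))⟩
  exact ⟨A, hA, hmax⟩

/-- Joining a centrally large subgroup with an abelian subgroup of largest order. -/
lemma maxAb_sup {Q A : Subgroup G} (hQ : IsCentrallyLarge Q) (hA : A ∈ maxAbelianSubgroups G) :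
    IsCentrallyLarge (Q ⊔ A) ∧ ((Q ⊔ A : Subgroup G) : Set G) = (Q : Set G) * (A : Set G) ∧
      Nat.card ↥(Q ⊓ A) * Nat.card 𝐂(Q) = Nat.card A * Nat.card ↥(𝐂(Q) ⊓ A) ∧
      (Q ⊓ A) ⊔ 𝐂(Q) ∈ maxAbelianSubgroups G := by
  obtain ⟨hl, hle⟩ := (centrallyLarge_iff Q).1 hQ
  set Z := 𝐂(Q)
  set B := (Q ⊓ A) ⊔ Z with hB
  have hBc : B ≤ 𝐂(B) := comm_sup (inf_le_right.trans ((comm_of_maxAb hA).trans (cent_mono inf_le_right)))
    (cl_centralizer_comm hQ) (inf_le_left.trans (le_centralizer_centralizer Q))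
  have hI : (Q ⊓ A) ⊓ Z = Z ⊓ A :=
    le_antisymm (le_inf inf_le_right (inf_le_left.trans inf_le_right))
      (le_inf (le_inf (inf_le_left.trans hle) inf_le_right) inf_le_left)
  have e1 := CfsgLib.LocalEvenSix.card_mul_card_le (Q ⊓ A) Z
  rw [← hB, hI] at e1
  have e2 : Nat.card ↥B * Nat.card ↥(Z ⊓ A) ≤ Nat.card A * Nat.card ↥(Z ⊓ A) :=
    Nat.mul_le_mul_right _ (card_le_maxAb hA hBc)
  have hCJ : 𝐂(Q ⊔ A) = Z ⊓ A := by rw [centralizer_sup, centralizer_maxAb hA]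
  have e3 := CfsgLib.LocalEvenSix.card_mul_card_le Q A
  have e4 := le_maxCentralizerProduct (Q ⊔ A)
  rw [hCJ, ← show _ = maxCentralizerProduct G from hl] at e4
  set j := Nat.card ↥(Q ⊔ A)
  set i := Nat.card ↥(Q ⊓ A)
  set z := Nat.card ↥(Z ⊓ A)
  set q := Nat.card Q
  set a := Nat.card A
  set c := Nat.card Z
  have hq : 0 < q := Nat.card_pos
  have hz : 0 < z := Nat.card_pos
  have hi : 0 < i := Nat.card_pos
  have c1 : q * a * z ≤ j * i * z := Nat.mul_le_mul_right _ e3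
  have c2 : j * i * z ≤ q * c * i := by
    calc j * i * z = j * z * i := by ring
      _ ≤ q * c * i := Nat.mul_le_mul_right _ e4
  have c3 : i * c ≤ a * z := e1.trans e2
  have c4 : q * c * i ≤ q * a * z := by
    calc q * c * i = q * (i * c) := by ring
      _ ≤ q * (a * z) := Nat.mul_le_mul_left _ c3
      _ = _ := by ring
  have k1 : i * c = a * z := by
    refine le_antisymm c3 (Nat.le_of_mul_le_mul_left ?_ hq)
    calc q * (a * z) = q * a * z := by ring
      _ ≤ q * c * i := c1.trans c2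
      _ = _ := by ring
  have k2 : j * i ≤ q * a := Nat.le_of_mul_le_mul_right (c2.trans c4) hz
  have k3 : j * z = q * c := by
    refine le_antisymm e4 (Nat.le_of_mul_le_mul_right ?_ hi)
    calc q * c * i ≤ j * i * z := c4.trans c1
      _ = _ := by ring
  refine ⟨cl_of_le hQ (large_of_ge (n := q * c) hl ?_) le_sup_left, coe_sup_eq_mul k2, k1, (comm_iff _).2 hBc, ?_⟩
  · rw [hCJ]; exact k3.ge
  · intro X hX
    refine le_trans (hA.2 X hX) ?_
    refine Nat.le_of_mul_le_mul_right ?_ hz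
    show a * z ≤ Nat.card ↥B * z
    rw [← k1]
    exact e1

/-! ### Minimal centrally large subgroups -/

/-- `U` is maximal among the abelian large subgroups. -/
def IsMaxAbelianLarge (U : Subgroup G) : Prop :=
  IsCentralizerLarge U ∧ U ≤ 𝐂(U) ∧ ∀ V : Subgroup G, IsCentralizerLarge V → V ≤ 𝐂(V) → U ≤ V → V = U

lemma maxAbelianLarge_of_minimalCL {Q : Subgroup G} (hQ : IsMinimalCentrallyLarge Q) : IsMaxAbelianLarge 𝐂(Q) := by
  obtain ⟨hl, hle⟩ := (centrallyLarge_iff Q).1 hQ.1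
  refine ⟨(large_centralizer hl).1, cl_centralizer_comm hQ.1, fun V hV hVc hUV => ?_⟩
  have h1 : 𝐂(V) ≤ Q := (cent_mono hUV).trans (large_centralizer hl).2.le
  have h2 := hQ.2 _ h1 (cl_of_abelianLarge hV hVc)
  calc V = 𝐂(𝐂(V)) := (large_centralizer hV).2.symm
    _ = 𝐂(Q) := by rw [h2]

lemma minimalCL_of_maxAbelianLarge {U : Subgroup G} (hU : IsMaxAbelianLarge U) :
    IsMinimalCentrallyLarge 𝐂(U) := by
  refine ⟨cl_of_abelianLarge hU.1 hU.2.1, fun R hR hcl => ?_⟩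
  have h1 : U ≤ 𝐂(R) := (le_centralizer_centralizer U).trans (cent_mono hR)
  have h2 := hU.2.2 _ (large_centralizer (cl_large hcl)).1 (cl_centralizer_comm hcl) h1
  calc R = 𝐂(𝐂(R)) := (large_centralizer (cl_large hcl)).2.symm
    _ = 𝐂(U) := by rw [h2]

lemma exists_maxAbelianLarge_ge {W : Subgroup G} (hW : IsCentralizerLarge W) (hWc : W ≤ 𝐂(W)) :
    ∃ U : Subgroup G, IsMaxAbelianLarge U ∧ W ≤ U := by
  obtain ⟨U, ⟨h1, h2, h3⟩, hmax⟩ := (inferInstance : WellFoundedGT (Subgroup G)).wf.has_min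
    {U : Subgroup G | IsCentralizerLarge U ∧ U ≤ 𝐂(U) ∧ W ≤ U} ⟨W, hW, hWc, le_rfl⟩
  refine ⟨U, ⟨h1, h2, fun V hV hVc hUV => ?_⟩, h3⟩
  by_contra hne
  exact hmax V ⟨hV, hVc, h3.trans hUV⟩ (lt_of_le_of_ne hUV (Ne.symm hne))

lemma minimalCL_decomp {Q R : Subgroup G} (hQ : IsMinimalCentrallyLarge Q) (hR : IsCentrallyLarge R) :
    (Q ⊓ R) ⊔ 𝐂(Q) = Q := by
  obtain ⟨hlQ, hleQ⟩ := (centrallyLarge_iff Q).1 hQ.1
  obtain ⟨hlR, hleR⟩ := (centrallyLarge_iff R).1 hR
  refine hQ.2 _ (sup_le inf_le_left hleQ) ((centrallyLarge_iff _).2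
    ⟨large_sup (large_inf hlQ hlR) (large_centralizer hlQ).1, ?_⟩)
  rw [centralizer_sup, centralizer_inf hlQ hlR, (large_centralizer hlQ).2]
  rintro g ⟨hg, hgQ⟩
  obtain ⟨a, ha, b, hb, rfl⟩ := mem_sup_large (large_centralizer hlQ).1 (large_centralizer hlR).1 hg
  have hbQ : b ∈ Q := by simpa using Q.mul_mem (Q.inv_mem (hleQ ha)) hgQ
  exact Subgroup.mul_mem _ (Subgroup.mem_sup_right ha) (Subgroup.mem_sup_left ⟨hbQ, hleR hb⟩)

lemma commutator_eq_commutator_inf {Q R : Subgroup G} (hQ : IsMinimalCentrallyLarge Q) (hR : IsCentrallyLarge R) :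
    ⁅Q, Q⁆ = ⁅Q ⊓ R, Q ⊓ R⁆ := by
  obtain ⟨hlQ, hleQ⟩ := (centrallyLarge_iff Q).1 hQ.1
  refine le_antisymm ?_ (Subgroup.commutator_mono inf_le_left inf_le_left)
  have hlD := large_inf hlQ (cl_large hR)
  rw [Subgroup.commutator_le]
  intro g hg g' hg'
  rw [← minimalCL_decomp hQ hR] at hg hg'
  obtain ⟨d, hd, z, hz, rfl⟩ := mem_sup_large hlD (large_centralizer hlQ).1 hg
  obtain ⟨d', hd', z', hz', rfl⟩ := mem_sup_large hlD (large_centralizer hlQ).1 hg'
  have c1 : Commute z d' := mem_centralizer_commute hz hd'.1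
  have c2 : Commute z' d := mem_centralizer_commute hz' hd.1
  have c3 : Commute z z' := mem_centralizer_commute (cl_centralizer_comm hQ.1 hz) hz'
  have e : ⁅d * z, d' * z'⁆ = ⁅d, d'⁆ := by
    simp only [commutatorElement_def, mul_inv_rev, mul_assoc]
    rw [c1.left_comm, c3.left_comm, mul_inv_cancel_left, c2.inv_right.left_comm, mul_inv_cancel_left]
  rw [e]
  exact Subgroup.commutator_mem_commutator hd hd'

lemma minimalCL_card_eq {Q R : Subgroup G} (hQ : IsMinimalCentrallyLarge Q) (hR : IsMinimalCentrallyLarge R) :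
    Nat.card Q = Nat.card R ∧ Nat.card 𝐂(Q) = Nat.card 𝐂(R) := by
  obtain ⟨hlQ, hleQ⟩ := (centrallyLarge_iff Q).1 hQ.1
  obtain ⟨hlR, hleR⟩ := (centrallyLarge_iff R).1 hR.1
  set D := Q ⊓ R with hD
  have hlD := large_inf hlQ hlR
  have hCQ := (large_centralizer hlQ).1
  have hCR := (large_centralizer hlR).1
  have eQ := (large_pair hlD hCQ).2.2.1
  have eR := (large_pair hlD hCR).2.2.1
  rw [minimalCL_decomp hQ hR.1] at eQ
  rw [show D ⊔ 𝐂(R) = R by rw [hD, inf_comm]; exact minimalCL_decomp hR hQ.1] at eR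
  have iQ : D ⊓ 𝐂(Q) = D ⊓ 𝐂(D) := by
    refine le_antisymm (inf_le_inf_left _ (cent_mono inf_le_left)) (le_inf inf_le_left ?_)
    conv_rhs => rw [← minimalCL_decomp hQ hR.1, centralizer_sup]
    exact le_inf inf_le_right ((inf_le_left.trans inf_le_left).trans (le_centralizer_centralizer Q))
  have iR : D ⊓ 𝐂(R) = D ⊓ 𝐂(D) := by
    refine le_antisymm (inf_le_inf_left _ (cent_mono inf_le_right)) (le_inf inf_le_left ?_)
    conv_rhs => rw [← minimalCL_decomp hR hQ.1, inf_comm, centralizer_sup]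
    exact le_inf inf_le_right ((inf_le_left.trans inf_le_right).trans (le_centralizer_centralizer R))
  rw [iQ] at eQ
  rw [iR] at eR
  set d := Nat.card ↥(D ⊓ 𝐂(D))
  have hd : 0 < d := Nat.card_pos
  have hD0 : 0 < Nat.card ↥D := Nat.card_pos
  have hm := large_eq hlQ hlR
  -- `|Q| d = |D| |𝐂(Q)|` and likewise for `R`
  have h2 : Nat.card 𝐂(Q) ^ 2 = Nat.card 𝐂(R) ^ 2 := by
    refine Nat.eq_of_mul_eq_mul_left hD0 ?_
    calc Nat.card ↥D * Nat.card 𝐂(Q) ^ 2 = (Nat.card ↥D * Nat.card 𝐂(Q)) * Nat.card 𝐂(Q) := by ring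
      _ = Nat.card Q * Nat.card 𝐂(Q) * d := by rw [← eQ]; ring
      _ = Nat.card R * Nat.card 𝐂(R) * d := by rw [hm]
      _ = (Nat.card ↥D * Nat.card 𝐂(R)) * Nat.card 𝐂(R) := by rw [← eR]; ring
      _ = _ := by ring
  have h3 : Nat.card 𝐂(Q) = Nat.card 𝐂(R) := Nat.pow_left_injective (by norm_num) h2
  exact ⟨Nat.eq_of_mul_eq_mul_right (Nat.card_pos (α := 𝐂(R))) (by rw [← hm, h3]), h3⟩

lemma centralizer_thompson (hJ : thompsonSubgroupA G ≤ centrallyLargeJoin G) :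
    𝐂(centrallyLargeJoin G) ≤ 𝐂(thompsonSubgroupA G) := cent_mono hJ

lemma centralizer_thompson_le : 𝐂(thompsonSubgroupA G) ≤ thompsonSubgroupA G := by
  obtain ⟨A, hA⟩ := exists_maxAb G
  exact ((cent_mono (le_sSup hA)).trans (centralizer_maxAb hA).le).trans (le_sSup hA)

lemma cl_sup_thompson {Q : Subgroup G} (hQ : IsCentrallyLarge Q) : IsCentrallyLarge (Q ⊔ thompsonSubgroupA G) := by
  have h : Q ⊔ thompsonSubgroupA G = sSup ((fun A => Q ⊔ A) '' maxAbelianSubgroups G) := by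
    refine le_antisymm (sup_le ?_ (sSup_le fun A hA => le_sup_right.trans (le_sSup ⟨A, hA, rfl⟩))) ?_
    · obtain ⟨A, hA⟩ := exists_maxAb G
      exact le_sup_left.trans (le_sSup ⟨A, hA, rfl⟩)
    · exact sSup_le (by rintro _ ⟨A, hA, rfl⟩; exact sup_le_sup_left (le_sSup hA) _)
  rw [h]
  exact cl_sSup (Set.Nonempty.image _ (exists_maxAb G)) (by rintro _ ⟨A, hA, rfl⟩; exact (maxAb_sup hQ hA).1)

lemma centralizer_center_thompson_le {Q : Subgroup G} (hQ : IsCentrallyLarge Q) :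
    𝐂(thompsonSubgroupA G ⊓ 𝐂(thompsonSubgroupA G)) ≤ Q ⊔ thompsonSubgroupA G := by
  have h := cl_sup_thompson hQ
  set R := Q ⊔ thompsonSubgroupA G
  have h1 : 𝐂(R) ≤ thompsonSubgroupA G ⊓ 𝐂(thompsonSubgroupA G) :=
    le_inf ((cent_mono le_sup_right).trans centralizer_thompson_le) (cent_mono le_sup_right)
  exact (cent_mono h1).trans (large_centralizer (cl_large h)).2.le

end CfsgLib.ChermakDelgado
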