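/-
A minimal centrally large subgroup of a p-group normalized by all minimal centrally large subgroups
and by all abelian subgroups of largest order.
-/
import Mathlib
import Cfsg.Prelude.Def_BaumannBlocks
import Cfsg.Agent.Lib.ChermakDelgado.Basic

set_option autoImplicit false

open Cfsg

namespace CfsgLib.ChermakDelgado

open Pointwise
open scoped commutatorElement

local notation:max "𝐂(" R ")" => Subgroup.centralizer (SetLike.coe R)

variable {G : Type*} [Group G] [Finite G]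

/-- The image of a subgroup under conjugation by `g`. -/
def cj (g : G) (H : Subgroup G) : Subgroup G := H.map (MulAut.conj g).toMonoidHom

omit [Finite G] in
lemma mem_cj {g x : G} {H : Subgroup G} : x ∈ cj g H ↔ g⁻¹ * x * g ∈ H := by
  constructor
  · rintro ⟨y, hy, rfl⟩
    simpa [mul_assoc] using hy
  · intro h
    exact ⟨_, h, by simp [mul_assoc]⟩

omit [Finite G] in
lemma conj_mem_cj {g x : G} {H : Subgroup G} (h : x ∈ H) : g * x * g⁻¹ ∈ cj g H := ⟨x, h, rfl⟩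

omit [Finite G] in
lemma cj_le_cj {g : G} {H K : Subgroup G} (h : H ≤ K) : cj g H ≤ cj g K := Subgroup.map_mono h

omit [Finite G] in
lemma card_cj (g : G) (H : Subgroup G) : Nat.card (cj g H) = Nat.card H :=
  Subgroup.card_map_of_injective (MulEquiv.injective _)

lemma cj_eq_of_le {g : G} {H : Subgroup G} (h : cj g H ≤ H) : cj g H = H :=
  Subgroup.eq_of_le_of_card_ge h (card_cj g H).ge

omit [Finite G] in
lemma cj_eq_iff {g : G} {H : Subgroup G} : cj g H = H ↔ g ∈ Subgroup.normalizer (H : Set G) :=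
  Subgroup.mem_normalizer_iff_map_conj_eq.symm

omit [Finite G] in
lemma cj_centralizer (g : G) (H : Subgroup G) : cj g 𝐂(H) = 𝐂(cj g H) :=
  CfsgLib.LocalEvenSix.centralizer_map_mulEquiv (MulAut.conj g) H

lemma large_cj (g : G) {H : Subgroup G} (h : IsCentralizerLarge H) : IsCentralizerLarge (cj g H) :=
  large_of_ge (Eq.symm h).symm (by rw [← cj_centralizer, card_cj, card_cj])

omit [Finite G] in
lemma comm_cj (g : G) {H : Subgroup G} (h : H ≤ 𝐂(H)) : cj g H ≤ 𝐂(cj g H) := by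
  rw [← cj_centralizer]; exact cj_le_cj h

omit [Finite G] in
lemma cj_cj (g h : G) (H : Subgroup G) : cj g (cj h H) = cj (g * h) H := by
  ext x; simp [mem_cj, mul_assoc]

omit [Finite G] in
lemma cj_one (H : Subgroup G) : cj 1 H = H := by ext x; simp [mem_cj]

lemma maxAbelianLarge_cj (g : G) {U : Subgroup G} (h : IsMaxAbelianLarge U) : IsMaxAbelianLarge (cj g U) := by
  refine ⟨large_cj g h.1, comm_cj g h.2.1, fun V hV hVc hUV => ?_⟩
  have h1 := cj_le_cj (g := g⁻¹) hUV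
  rw [cj_cj, inv_mul_cancel, cj_one] at h1
  have h2 := h.2.2 _ (large_cj g⁻¹ hV) (comm_cj g⁻¹ hVc) h1
  calc V = cj g (cj g⁻¹ V) := by rw [cj_cj, mul_inv_cancel, cj_one]
    _ = cj g U := by rw [h2]

/-- An atom of the lattice of large subgroups above `W₀` inside `C(W₀)`. -/
def IsAtomAbove (W₀ α : Subgroup G) : Prop :=
  IsCentralizerLarge α ∧ W₀ < α ∧ α ≤ 𝐂(W₀) ∧
    ∀ β : Subgroup G, IsCentralizerLarge β → W₀ ≤ β → β ≤ α → β = W₀ ∨ β = α

lemma exists_atom_le {W₀ L : Subgroup G} (hL : IsCentralizerLarge L) (hlt : W₀ < L) (hX : L ≤ 𝐂(W₀)) :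
    ∃ α : Subgroup G, IsAtomAbove W₀ α ∧ α ≤ L := by
  obtain ⟨α, ⟨hα, hWα, hαL⟩, hmin⟩ := (inferInstance : WellFoundedLT (Subgroup G)).wf.has_min
    {α : Subgroup G | IsCentralizerLarge α ∧ W₀ < α ∧ α ≤ L} ⟨L, hL, hlt, le_rfl⟩
  refine ⟨α, ⟨hα, hWα, hαL.trans hX, fun β hβ hWβ hβα => ?_⟩, hαL⟩
  rcases eq_or_lt_of_le hWβ with h | h
  · exact Or.inl h.symm
  · refine Or.inr (by_contra fun hne => ?_)
    exact hmin β ⟨hβ, h, hβα.trans hαL⟩ (lt_of_le_of_ne hβα hne)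

/-- The join of the atoms above `W₀`. -/
def atomJoin (W₀ : Subgroup G) : Subgroup G := sSup (insert W₀ {α : Subgroup G | IsAtomAbove W₀ α})

/-- The join of the abelian atoms above `W₀`. -/
def abelianAtomJoin (W₀ : Subgroup G) : Subgroup G :=
  sSup (insert W₀ {α : Subgroup G | IsAtomAbove W₀ α ∧ α ≤ 𝐂(α)})

lemma large_atomJoin {W₀ : Subgroup G} (hl : IsCentralizerLarge W₀) : IsCentralizerLarge (atomJoin W₀) :=
  large_sSup (Set.insert_nonempty _ _) (by rintro R (rfl | hR); exacts [hl, hR.1])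

/-- If `W₀` is largest among abelian large subgroups normalized by `K`, then the atoms generate `C(W₀)`. -/
lemma socle_eq {W₀ K : Subgroup G} (hl : IsCentralizerLarge W₀) (hc : W₀ ≤ 𝐂(W₀))
    (hK : K ≤ Subgroup.normalizer (W₀ : Set G))
    (hmax : ∀ W : Subgroup G, IsCentralizerLarge W → W ≤ 𝐂(W) → W₀ ≤ W → K ≤ Subgroup.normalizer (W : Set G) → W = W₀) :
    𝐂(W₀) ≤ atomJoin W₀ := by
  set S := atomJoin W₀ with hS
  have hlS : IsCentralizerLarge S := large_atomJoin hl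
  have hWS : W₀ ≤ S := le_sSup (Set.mem_insert _ _)
  have hSX : S ≤ 𝐂(W₀) := sSup_le (by rintro R (rfl | hR); exacts [hc, hR.2.2.1])
  have hSn : ∀ g ∈ K, cj g S = S := by
    intro g hg
    have hW := cj_eq_iff.2 (hK hg)
    refine cj_eq_of_le ?_
    rw [cj, Subgroup.map_le_iff_le_comap]
    refine sSup_le fun R hR => ?_
    rw [← Subgroup.map_le_iff_le_comap]
    rcases hR with rfl | hR
    · exact hW.le.trans hWS
    refine le_sSup (Set.mem_insert_of_mem _ ?_)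
    refine ⟨large_cj g hR.1, ?_, ?_, fun β hβ h1 h2 => ?_⟩
    · refine lt_of_le_of_ne (hW ▸ cj_le_cj hR.2.1.le) fun h => hR.2.1.ne ?_
      exact Subgroup.map_injective (MulEquiv.injective _) ((show cj g W₀ = W₀ from hW).trans h)
    · have := cj_le_cj (g := g) hR.2.2.1
      rwa [cj_centralizer, hW] at this
    · have hW' : cj g⁻¹ W₀ = W₀ := cj_eq_iff.2 (hK (K.inv_mem hg))
      have h1' := cj_le_cj (g := g⁻¹) h1
      have h2' := cj_le_cj (g := g⁻¹) (show β ≤ cj g R from h2)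
      rw [hW'] at h1'
      rw [cj_cj, inv_mul_cancel, cj_one] at h2'
      have hβ' : β = cj g (cj g⁻¹ β) := by rw [cj_cj, mul_inv_cancel, cj_one]
      rcases hR.2.2.2 _ (large_cj g⁻¹ hβ) h1' h2' with h | h
      · exact Or.inl (by rw [hβ', h, hW])
      · exact Or.inr (show β = cj g R by rw [hβ', h])
  obtain ⟨hlC, hCC⟩ := large_centralizer hlS
  have hZ : S ⊓ 𝐂(S) = W₀ := by
    refine hmax _ (large_inf hlS hlC) ?_ (le_inf hWS (Subgroup.le_centralizer_iff.1 hSX)) fun g hg => ?_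
    · exact inf_le_right.trans (cent_mono inf_le_left)
    · refine cj_eq_iff.1 (cj_eq_of_le ?_)
      refine le_inf ((cj_le_cj inf_le_left).trans (hSn g hg).le) ((cj_le_cj inf_le_right).trans ?_)
      rw [cj_centralizer, hSn g hg]
  have hCS : 𝐂(S) = W₀ := by
    by_contra hne
    obtain ⟨α, hα, hαC⟩ := exists_atom_le hlC
      (lt_of_le_of_ne (Subgroup.le_centralizer_iff.1 hSX) (Ne.symm hne)) (cent_mono hWS)
    have : α ≤ W₀ := hZ ▸ le_inf (le_sSup (Set.mem_insert_of_mem _ hα)) hαC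
    exact hα.2.1.not_ge this
  calc 𝐂(W₀) = 𝐂(𝐂(S)) := by rw [hCS]
    _ ≤ S := hCC.le

lemma exists_complement {W₀ I : Subgroup G} (hl : IsCentralizerLarge W₀) (hc : W₀ ≤ 𝐂(W₀))
    (hgen : 𝐂(W₀) ≤ atomJoin W₀) (hI : IsCentralizerLarge I) (hWI : W₀ ≤ I) :
    ∃ M : Subgroup G, IsCentralizerLarge M ∧ W₀ ≤ M ∧ M ⊓ I = W₀ ∧ 𝐂(W₀) ≤ I ⊔ M := by
  obtain ⟨M, ⟨hM, hWM, hMI⟩, hmax⟩ := (inferInstance : WellFoundedGT (Subgroup G)).wf.has_min
    {M : Subgroup G | IsCentralizerLarge M ∧ W₀ ≤ M ∧ M ⊓ I = W₀} ⟨W₀, hl, le_rfl, inf_eq_left.2 hWI⟩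
  refine ⟨M, hM, hWM, hMI, hgen.trans (sSup_le ?_)⟩
  rintro α (rfl | hα)
  · exact hWI.trans le_sup_left
  by_contra hle
  have hIM := large_sup hI hM
  have hαI : (I ⊔ M) ⊓ α = W₀ :=
    (hα.2.2.2 _ (large_inf hIM hα.1) (le_inf (hWI.trans le_sup_left) hα.2.1.le) inf_le_right).resolve_right
      fun h => hle (h ▸ inf_le_left)
  have hNI : (M ⊔ α) ⊓ I = W₀ := by
    refine le_antisymm ?_ (le_inf (hWM.trans le_sup_left) hWI)
    rintro y ⟨hy, hyI⟩
    obtain ⟨m, hm, t, ht, rfl⟩ := mem_sup_large hM hα.1 hy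
    have htIM : t ∈ I ⊔ M := by
      have := Subgroup.mul_mem _ (Subgroup.mem_sup_right (S := I) (M.inv_mem hm)) (Subgroup.mem_sup_left (T := M) hyI)
      simpa using this
    have htW : t ∈ W₀ := hαI ▸ (⟨htIM, ht⟩ : t ∈ (I ⊔ M) ⊓ α)
    exact hMI ▸ ⟨M.mul_mem hm (hWM htW), hyI⟩
  have hαM : α ≤ M := by
    by_contra h
    exact hmax (M ⊔ α) ⟨large_sup hM hα.1, hWM.trans le_sup_left, hNI⟩ (left_lt_sup.2 h)
  exact hle (hαM.trans le_sup_right)

lemma le_abelianAtomJoin {W₀ U : Subgroup G} (hl : IsCentralizerLarge W₀) (hc : W₀ ≤ 𝐂(W₀))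
    (hgen : 𝐂(W₀) ≤ atomJoin W₀) (hU : IsCentralizerLarge U) (hUc : U ≤ 𝐂(U)) (hWU : W₀ ≤ U) :
    U ≤ abelianAtomJoin W₀ := by
  set I := sSup (insert W₀ {α : Subgroup G | IsAtomAbove W₀ α ∧ α ≤ U}) with hIdef
  have hI : IsCentralizerLarge I :=
    large_sSup (Set.insert_nonempty _ _) (by rintro R (rfl | hR); exacts [hl, hR.1.1])
  have hIU : I ≤ U := sSup_le (by rintro R (rfl | hR); exacts [hWU, hR.2])
  have hIW : W₀ ≤ I := le_sSup (Set.mem_insert _ _)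
  have hUX : U ≤ 𝐂(W₀) := hUc.trans (cent_mono hWU)
  obtain ⟨M, hM, hWM, hMI, hsup⟩ := exists_complement hl hc hgen hI hIW
  have hMU : M ⊓ U = W₀ := by
    by_contra hne
    obtain ⟨α, hα, hαM⟩ := exists_atom_le (large_inf hM hU) (lt_of_le_of_ne (le_inf hWM hWU) (Ne.symm hne))
      (inf_le_right.trans hUX)
    have : α ≤ M ⊓ I := le_inf (hαM.trans inf_le_left)
      (le_sSup (Set.mem_insert_of_mem _ ⟨hα, hαM.trans inf_le_right⟩))
    exact hα.2.1.not_ge (hMI ▸ this)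
  have hle : I ≤ abelianAtomJoin W₀ := sSup_le (by
    rintro R (rfl | ⟨hR, hRU⟩)
    · exact le_sSup (Set.mem_insert _ _)
    · exact le_sSup (Set.mem_insert_of_mem _ ⟨hR, hRU.trans (hUc.trans (cent_mono hRU))⟩))
  refine le_trans ?_ hle
  intro u hu
  obtain ⟨i, hi, m, hm, rfl⟩ := mem_sup_large hI hM (hsup (hUX hu))
  have : m ∈ M ⊓ U := ⟨hm, by simpa using U.mul_mem (U.inv_mem (hIU hi)) hu⟩
  exact I.mul_mem hi (hIW (hMU ▸ this))

lemma atom_normalizes {W₀ α β : Subgroup G} (hl : IsCentralizerLarge W₀) (hα : IsAtomAbove W₀ α)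
    (hβ : IsAtomAbove W₀ β) {b : G} (hb : b ∈ β) : cj b α = α := by
  set L := α ⊔ cj b α with hL
  have hLl : IsCentralizerLarge L := large_sup hα.1 (large_cj b hα.1)
  have hLle : L ≤ α ⊔ β := by
    refine sup_le le_sup_left ?_
    rintro _ ⟨y, hy, rfl⟩
    exact Subgroup.mul_mem _ (Subgroup.mul_mem _ (Subgroup.mem_sup_right hb) (Subgroup.mem_sup_left hy))
      (Subgroup.inv_mem _ (Subgroup.mem_sup_right hb))
  apply cj_eq_of_le
  rcases hβ.2.2.2 _ (large_inf hLl hβ.1) (le_inf (hα.2.1.le.trans le_sup_left) hβ.2.1.le) inf_le_right with h | h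
  · intro y hy
    obtain ⟨a, ha, t, ht, e⟩ := mem_sup_large hα.1 hβ.1 (hLle (Subgroup.mem_sup_right hy))
    have htL : t ∈ L := by
      have := L.mul_mem (Subgroup.mem_sup_left (α.inv_mem ha)) (Subgroup.mem_sup_right hy : y ∈ L)
      simpa [e] using this
    exact e ▸ α.mul_mem ha (hα.2.1.le (h ▸ (⟨htL, ht⟩ : t ∈ L ⊓ β)))
  · have hbL : b⁻¹ ∈ L := (h ▸ inf_le_left : β ≤ L) (β.inv_mem hb)
    obtain ⟨a, ha, t, ht, e⟩ := mem_sup_large hα.1 (large_cj b hα.1) hbL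
    rw [mem_cj] at ht
    have hbα : b ∈ α := by
      have e2 : b = a⁻¹ * (b⁻¹ * t * b)⁻¹ := by
        have e3 : t = a⁻¹ * b⁻¹ := by rw [e]; group
        rw [e3]; group
      rw [e2]
      exact α.mul_mem (α.inv_mem ha) (α.inv_mem ht)
    rintro _ ⟨y, hy, rfl⟩
    exact α.mul_mem (α.mul_mem hbα hy) (α.inv_mem hbα)

lemma atom_commutator_mem {W₀ α β : Subgroup G} (hl : IsCentralizerLarge W₀) (hα : IsAtomAbove W₀ α)
    (hαc : α ≤ 𝐂(α)) (hβ : IsAtomAbove W₀ β) {x y : G} (hx : x ∈ α) (hy : y ∈ β) : ⁅x, y⁆ ∈ W₀ := by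
  by_cases hne : α = β
  · subst hne
    rw [commutatorElement_eq_one_iff_commute.2 (mem_centralizer_commute (hαc hx) hy)]
    exact W₀.one_mem
  have hαβ : α ⊓ β = W₀ := by
    rcases hα.2.2.2 _ (large_inf hα.1 hβ.1) (le_inf hα.2.1.le hβ.2.1.le) inf_le_left with h | h
    · exact h
    · exfalso
      rcases hβ.2.2.2 α hα.1 hα.2.1.le (h ▸ inf_le_right) with h' | h'
      · exact hα.2.1.ne' h'
      · exact hne h'
  rw [← hαβ]
  constructor
  · rw [commutatorElement_def, mul_assoc, mul_assoc]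
    refine α.mul_mem hx ?_
    rw [← mul_assoc]
    exact (atom_normalizes hl hα hβ hy).le (conj_mem_cj (α.inv_mem hx))
  · exact β.mul_mem ((atom_normalizes hl hβ hα hx).le (conj_mem_cj hy)) (β.inv_mem hy)

omit [Finite G] in
lemma commutatorElement_mul_left' (a b y : G) : ⁅a * b, y⁆ = a * ⁅b, y⁆ * a⁻¹ * ⁅a, y⁆ := by
  simp only [commutatorElement_def]; group

omit [Finite G] in
lemma commutatorElement_mul_right' (a b y : G) : ⁅y, a * b⁆ = ⁅y, a⁆ * (a * ⁅y, b⁆ * a⁻¹) := by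
  simp only [commutatorElement_def]; group

lemma abelianAtomJoin_le {W₀ : Subgroup G} (hc : W₀ ≤ 𝐂(W₀)) : abelianAtomJoin W₀ ≤ 𝐂(W₀) :=
  sSup_le (by rintro R (rfl | hR); exacts [hc, hR.1.2.2.1])

lemma commutator_abelianAtomJoin {W₀ : Subgroup G} (hl : IsCentralizerLarge W₀) (hc : W₀ ≤ 𝐂(W₀))
    {x y : G} (hx : x ∈ abelianAtomJoin W₀) (hy : y ∈ abelianAtomJoin W₀) : ⁅x, y⁆ ∈ W₀ := by
  let CY : G → Subgroup G := fun y =>
    { carrier := {g | g ∈ 𝐂(W₀) ∧ ⁅g, y⁆ ∈ W₀}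
      one_mem' := ⟨Subgroup.one_mem _, by rw [commutatorElement_one_left]; exact W₀.one_mem⟩
      mul_mem' := fun {a b} ha hb => ⟨Subgroup.mul_mem _ ha.1 hb.1, by
        rw [commutatorElement_mul_left', (mem_centralizer_commute ha.1 hb.2).eq, mul_inv_cancel_right]
        exact W₀.mul_mem hb.2 ha.2⟩
      inv_mem' := fun {a} ha => ⟨Subgroup.inv_mem _ ha.1, by
        have e : ⁅a⁻¹, y⁆ = a⁻¹ * ⁅a, y⁆⁻¹ * a⁻¹⁻¹ := by simp only [commutatorElement_def]; group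
        rw [e, (mem_centralizer_commute (Subgroup.inv_mem _ ha.1) (W₀.inv_mem ha.2)).eq, mul_inv_cancel_right]
        exact W₀.inv_mem ha.2⟩ }
  have hgen2 : ∀ R ∈ insert W₀ {α : Subgroup G | IsAtomAbove W₀ α ∧ α ≤ 𝐂(α)}, ∀ r ∈ R,
      ∀ S ∈ insert W₀ {α : Subgroup G | IsAtomAbove W₀ α ∧ α ≤ 𝐂(α)}, ∀ s ∈ S, ⁅r, s⁆ ∈ W₀ := by
    intro R hR r hr S hS s hs
    rcases hR with rfl | hR
    · have hsX : s ∈ 𝐂(R) := abelianAtomJoin_le hc (le_sSup hS hs)
      rw [commutatorElement_eq_one_iff_commute.2 (mem_centralizer_commute hsX hr).symm]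
      exact R.one_mem
    rcases hS with rfl | hS
    · rw [commutatorElement_eq_one_iff_commute.2 (mem_centralizer_commute (hR.1.2.2.1 hr) hs)]
      exact S.one_mem
    exact atom_commutator_mem hl hR.1 hR.2 hS.1 hr hs
  have h1 : ∀ R ∈ insert W₀ {α : Subgroup G | IsAtomAbove W₀ α ∧ α ≤ 𝐂(α)}, ∀ r ∈ R,
      ∀ z ∈ abelianAtomJoin W₀, ⁅z, r⁆ ∈ W₀ := by
    intro R hR r hr z hz
    have : abelianAtomJoin W₀ ≤ CY r := sSup_le fun S hS s hs =>
      ⟨abelianAtomJoin_le hc (le_sSup hS hs), hgen2 S hS s hs R hR r hr⟩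
    exact (this hz).2
  have : abelianAtomJoin W₀ ≤ CY y := sSup_le fun S hS s hs =>
    ⟨abelianAtomJoin_le hc (le_sSup hS hs), by
      rw [← commutatorElement_inv y s]; exact W₀.inv_mem (h1 S hS s hs y hy)⟩
  exact (this hx).2

/-- Conjugation by an element `a` of an abelian subgroup of largest order moves a maximal abelian large
subgroup only within a large abelian subgroup. -/
lemma exists_abelianLarge_of_moves {p : ℕ} [Fact p.Prime] (hG : IsPGroup p G) {W₀ : Subgroup G}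
    (hl : IsCentralizerLarge W₀) (hc : W₀ ≤ 𝐂(W₀)) (hgen : 𝐂(W₀) ≤ atomJoin W₀)
    {A : Subgroup G} (hA : A ∈ maxAbelianSubgroups G) {a : G} (ha : a ∈ A) (haW : cj a W₀ = W₀)
    {U : Subgroup G} (hU : IsMaxAbelianLarge U) (hWU : W₀ ≤ U) :
    ∃ P₀ : Subgroup G, IsCentralizerLarge P₀ ∧ P₀ ≤ 𝐂(P₀) ∧ W₀ ≤ P₀ ∧
      ∀ u ∈ U, u⁻¹ * (a * u * a⁻¹) ∈ P₀ := by
  classical
  -- conjugates of `U`
  let Uk : ℕ → Subgroup G := fun k => cj (a ^ k) U
  have hWk : ∀ k, cj (a ^ k) W₀ = W₀ := fun k => cj_eq_iff.2 (Subgroup.pow_mem _ (cj_eq_iff.1 haW) k)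
  have hUkW : ∀ k, W₀ ≤ Uk k := fun k => (hWk k).ge.trans (cj_le_cj hWU)
  have hUkM : ∀ k, IsMaxAbelianLarge (Uk k) := fun k => maxAbelianLarge_cj _ hU
  have hU0 : Uk 0 = U := by simp [Uk, cj_one]
  set T := ⨆ k, Uk k with hT
  set W := ⨅ k, Uk k with hW
  have hTl : IsCentralizerLarge T := large_sSup (Set.range_nonempty _) (by rintro _ ⟨k, rfl⟩; exact (hUkM k).1)
  have hWl : IsCentralizerLarge W := large_sInf (Set.range_nonempty _) (by rintro _ ⟨k, rfl⟩; exact (hUkM k).1)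
  have hUT : U ≤ T := hU0 ▸ le_iSup Uk 0
  have hWU' : W ≤ U := hU0 ▸ iInf_le Uk 0
  have hWT : W ≤ T := hWU'.trans hUT
  have hW0W : W₀ ≤ W := le_iInf hUkW
  have hTS : T ≤ abelianAtomJoin W₀ := iSup_le fun k => le_abelianAtomJoin hl hc hgen (hUkM k).1 (hUkM k).2.1 (hUkW k)
  set Y := 𝐂(T) with hY
  set Q := 𝐂(U) with hQ
  set X := 𝐂(W) with hX
  obtain ⟨hYl, hCY⟩ := large_centralizer hTl
  obtain ⟨hQl, hCQ⟩ := large_centralizer hU.1
  have hYQ : Y ≤ Q := cent_mono hUT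
  have hTY : T ⊓ Y = W := by
    refine le_antisymm (le_iInf fun k => ?_) (le_inf hWT ?_)
    · have h1 : Uk k ≤ 𝐂(T ⊓ Y) := (le_iSup Uk k).trans ((le_centralizer_centralizer T).trans (cent_mono inf_le_right))
      have h2 := (hUkM k).2.2 (Uk k ⊔ (T ⊓ Y)) (large_sup (hUkM k).1 (large_inf hTl hYl))
        (comm_sup (hUkM k).2.1 (inf_le_right.trans (cent_mono inf_le_left)) h1) le_sup_left
      exact le_sup_right.trans h2.le
    · exact Subgroup.le_centralizer_iff.1 (iSup_le fun k => (hUkM k).2.1.trans (cent_mono (iInf_le Uk k)))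
  have hXTY : X = Y ⊔ T := by rw [hX, ← hTY, centralizer_inf hTl hYl, hY, hCY]
  have hUX : U ≤ X := hU.2.1.trans (cent_mono hWU')
  have hTX : T ≤ X := hXTY ▸ le_sup_right
  have hYX : Y ≤ X := hXTY ▸ le_sup_left
  have hWX : W ≤ X := hWT.trans hTX
  have hXY : X ≤ Subgroup.normalizer (Y : Set G) := by
    rw [hXTY]
    exact sup_le Subgroup.le_normalizer ((le_centralizer_centralizer T).trans (Subgroup.centralizer_le_normalizer _))
  -- invariance under powers of `a`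
  have haT : ∀ k, cj (a ^ k) T ≤ T := fun k => by
    rw [cj, hT, Subgroup.map_iSup]
    refine iSup_le fun j => ?_
    show cj (a ^ k) (cj (a ^ j) U) ≤ _
    rw [cj_cj, ← pow_add]
    exact le_iSup Uk (k + j)
  have haY : ∀ k, cj (a ^ k) Y = Y := fun k => by rw [hY, cj_centralizer, cj_eq_of_le (haT k)]
  have haWk : ∀ k, cj (a ^ k) W = W := fun k => by
    refine cj_eq_of_le ?_
    rw [← hTY]
    exact le_inf ((cj_le_cj inf_le_left).trans (haT k)) ((cj_le_cj inf_le_right).trans (haY k).le)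
  -- `A ∩ X` and `P₀`
  set B := A ⊓ X with hB
  have hBX : B ≤ X := inf_le_right
  have hBA : B ≤ A := inf_le_left
  have hAcomm : ∀ s ∈ A, ∀ t ∈ A, Commute s t := fun s hs t ht => mem_centralizer_commute (comm_of_maxAb hA hs) ht
  have hXcl : IsCentrallyLarge X := cl_of_abelianLarge hWl ((hWU'.trans hU.2.1).trans (cent_mono hWU'))
  obtain ⟨hCW⟩ := (⟨(large_centralizer hWl).2⟩ : PLift (𝐂(X) = W))
  have hBc : Nat.card B * Nat.card W = Nat.card A * Nat.card ↥(W ⊓ A) := by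
    have h := (maxAb_sup hXcl hA).2.2.1
    rwa [hCW, inf_comm X A] at h
  set P₀ := T ⊓ (B ⊔ Y) with hP₀
  have hP₀T : P₀ ≤ T := inf_le_left
  have hdec : ∀ t ∈ P₀, ∃ b ∈ B, ∃ y ∈ Y, t = b * y := fun t ht =>
    CfsgLib.Coprime.exists_mul_of_mem_sup (hBX.trans hXY) ht.2
  have hWP₀ : W ≤ P₀ := le_inf hWT (le_sup_of_le_right (hTY ▸ inf_le_right))
  -- `a` fixes `P₀` modulo `W`
  have hfix : ∀ (k : ℕ), ∀ t ∈ P₀, t⁻¹ * (a ^ k * t * (a ^ k)⁻¹) ∈ W := by
    intro k t ht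
    rw [← hTY]
    refine ⟨T.mul_mem (T.inv_mem ht.1) (haT k (conj_mem_cj ht.1)), ?_⟩
    obtain ⟨b, hb, y, hy, rfl⟩ := hdec t ht
    have hab : Commute (a ^ k) b := (hAcomm a ha b (hBA hb)).pow_left k
    have e : (b * y)⁻¹ * (a ^ k * (b * y) * (a ^ k)⁻¹) = y⁻¹ * (a ^ k * y * (a ^ k)⁻¹) := by
      rw [← mul_assoc (a ^ k) b y, hab.eq]; group
    rw [e]
    exact Y.mul_mem (Y.inv_mem hy) ((haY k).le (conj_mem_cj hy))
  have hP₀Q : P₀ ⊓ Q = W := by
    refine le_antisymm ?_ (le_inf hWP₀ (hWU'.trans hU.2.1))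
    rintro t ⟨ht, htQ⟩
    rw [← hTY]
    refine ⟨ht.1, ?_⟩
    show t ∈ Y
    rw [hY, Subgroup.mem_centralizer_iff]
    intro u hu
    have : ⨆ k, Uk k ≤ 𝐂(Subgroup.zpowers t) := iSup_le fun k => by
      rw [Subgroup.le_centralizer_iff, Subgroup.zpowers_le]
      obtain ⟨j, hj⟩ : ∃ j : ℕ, a ^ j = (a ^ k)⁻¹ := by
        have := (isOfFinOrder_of_finite a).mem_powers_iff_mem_zpowers.2 (Subgroup.inv_mem _ (Subgroup.pow_mem _ (Subgroup.mem_zpowers a) k))
        exact this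
      have h1 := hfix j t ht
      rw [hj, inv_inv] at h1
      have h2 : (a ^ k)⁻¹ * t * a ^ k ∈ Q := by
        have := Q.mul_mem htQ (show t⁻¹ * ((a ^ k)⁻¹ * t * a ^ k) ∈ Q from (hWU'.trans hU.2.1) h1)
        rwa [mul_inv_cancel_left] at this
      show t ∈ 𝐂(cj (a ^ k) U)
      rw [← cj_centralizer, mem_cj]
      exact h2
    exact (mem_centralizer_commute (this hu) (Subgroup.mem_zpowers t)).eq
  have hP₀Y : P₀ ⊓ Y = W := le_antisymm ((inf_le_inf_left _ hYQ).trans hP₀Q.le) (le_inf hWP₀ (hTY ▸ inf_le_right))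
  have hP₀X : P₀ ≤ X := hP₀T.trans hTX
  -- orders
  have eBY := CfsgLib.Coprime.card_sup_mul_card_inf (hBX.trans hXY)
  have ePY := CfsgLib.Coprime.card_sup_mul_card_inf (hP₀X.trans hXY)
  rw [inf_comm Y B] at eBY
  rw [inf_comm Y P₀] at ePY
  have hsupY : P₀ ⊔ Y = B ⊔ Y := by
    refine le_antisymm (sup_le inf_le_right le_sup_right) (sup_le (fun b hb => ?_) le_sup_right)
    obtain ⟨y, hy, t, ht, rfl⟩ := mem_sup_large hYl hTl (hXTY ▸ hBX hb : b ∈ Y ⊔ T)
    refine Subgroup.mul_mem _ (Subgroup.mem_sup_right hy) (Subgroup.mem_sup_left ⟨ht, ?_⟩)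
    have := Subgroup.mul_mem _ (Subgroup.mem_sup_right (S := B) (Y.inv_mem hy)) (Subgroup.mem_sup_left (T := Y) hb)
    simpa using this
  rw [hP₀Y, hsupY] at ePY
  have hP₀c : Nat.card P₀ * Nat.card ↥(B ⊓ Y) = Nat.card B * Nat.card W := by
    refine Nat.eq_of_mul_eq_mul_right (Nat.card_pos (α := Y)) ?_
    calc Nat.card P₀ * Nat.card ↥(B ⊓ Y) * Nat.card Y = (Nat.card P₀ * Nat.card Y) * Nat.card ↥(B ⊓ Y) := by ring
      _ = Nat.card ↥(B ⊔ Y) * Nat.card ↥(B ⊓ Y) * Nat.card W := by rw [← ePY]; ring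
      _ = _ := by rw [eBY]; ring
  -- abelian subgroups between `U` and `Q ∩ T`
  have hD : ∀ L : Subgroup G, U ≤ L → L ≤ Q ⊓ T → L ≤ 𝐂(L) → L ⊔ (B ⊓ Y) ≤ 𝐂(L ⊔ (B ⊓ Y)) ∧
      Nat.card L * Nat.card ↥(B ⊓ Y) ≤ Nat.card ↥(L ⊔ (B ⊓ Y)) * Nat.card ↥(W ⊓ A) := by
    intro L hUL hLQ hLc
    refine ⟨comm_sup hLc (inf_le_left.trans (hBA.trans ((comm_of_maxAb hA).trans (cent_mono (inf_le_left.trans hBA)))))
      ((hLQ.trans inf_le_right).trans ((le_centralizer_centralizer T).trans (cent_mono inf_le_right))), ?_⟩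
    refine (CfsgLib.LocalEvenSix.card_mul_card_le L (B ⊓ Y)).trans (Nat.mul_le_mul_left _ (card_le_of_le' ?_))
    rintro z ⟨hzL, hzB, hzY⟩
    exact ⟨hTY ▸ ⟨(hLQ hzL).2, hzY⟩, hBA hzB⟩
  have hL : ∀ L : Subgroup G, U ≤ L → L ≤ Q ⊓ T → L ≤ 𝐂(L) → Nat.card L ≤ Nat.card P₀ := by
    intro L hUL hLQ hLc
    obtain ⟨h1, h2⟩ := hD L hUL hLQ hLc
    have h3 := h2.trans (Nat.mul_le_mul_right _ (card_le_maxAb hA h1))
    rw [← hBc, ← hP₀c] at h3
    exact Nat.le_of_mul_le_mul_right h3 Nat.card_pos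
  have hQT : Nat.card T * Nat.card W = Nat.card U * Nat.card ↥(Q ⊓ T) := by
    have hQdec : (Q ⊓ T) ⊔ Y = Q := by
      refine le_antisymm (sup_le inf_le_left hYQ) fun q hq => ?_
      have hqX : q ∈ Y ⊔ T := hXTY ▸ (cent_mono hWU' hq)
      obtain ⟨y, hy, t, ht, rfl⟩ := mem_sup_large hYl hTl hqX
      exact Subgroup.mul_mem _ (Subgroup.mem_sup_right hy)
        (Subgroup.mem_sup_left ⟨by simpa using Q.mul_mem (Q.inv_mem (hYQ hy)) hq, ht⟩)
    have e1 := (large_pair (large_inf hQl hTl) hYl).2.2.1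
    rw [hQdec, show Q ⊓ T ⊓ Y = W by rw [inf_assoc, hTY, inf_eq_right.2 (hWU'.trans hU.2.1)]] at e1
    have e2 := large_eq hTl hU.1
    refine Nat.eq_of_mul_eq_mul_right (Nat.card_pos (α := Y)) ?_
    calc Nat.card T * Nat.card W * Nat.card Y = (Nat.card T * Nat.card Y) * Nat.card W := by ring
      _ = Nat.card U * (Nat.card Q * Nat.card W) := by rw [e2]; ring
      _ = _ := by rw [e1]; ring
  have hupper : Nat.card P₀ ≤ Nat.card U := by
    have h1 := CfsgLib.LocalEvenSix.card_mul_card_le P₀ (Q ⊓ T)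
    have h2 : P₀ ⊓ (Q ⊓ T) = W := by rw [← inf_assoc, hP₀Q, inf_eq_left.2 hWT]
    rw [h2] at h1
    have h3 := h1.trans (Nat.mul_le_mul_right _ (card_le_of_le' (sup_le hP₀T inf_le_right)))
    rw [hQT] at h3
    exact Nat.le_of_mul_le_mul_right h3 Nat.card_pos
  have hcardP : Nat.card P₀ = Nat.card U :=
    le_antisymm hupper (hL U le_rfl (le_inf hU.2.1 hUT) hU.2.1)
  have hQTU : Q ⊓ T = U := by
    refine le_antisymm (fun q hq => ?_) (le_inf hU.2.1 hUT)
    have hc' : U ⊔ Subgroup.zpowers q ≤ 𝐂(U ⊔ Subgroup.zpowers q) :=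
      comm_sup hU.2.1 (zpowers_comm q) (Subgroup.le_centralizer_iff.1 (zpowers_le_centralizer hq.1))
    have h1 := hL _ le_sup_left (sup_le (le_inf hU.2.1 hUT) ((Subgroup.zpowers_le).2 hq)) hc'
    rw [hcardP] at h1
    rw [Subgroup.eq_of_le_of_card_ge (le_sup_left : U ≤ U ⊔ Subgroup.zpowers q) h1]
    exact Subgroup.mem_sup_right (Subgroup.mem_zpowers q)
  -- `P₀` is abelian
  have hUB : U ⊔ (B ⊓ Y) ≤ 𝐂(U ⊔ (B ⊓ Y)) := (hD U le_rfl (le_inf hU.2.1 hUT) hU.2.1).1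
  have hUBc : Nat.card A ≤ Nat.card ↥(U ⊔ (B ⊓ Y)) := by
    have h2 := (hD U le_rfl (le_inf hU.2.1 hUT) hU.2.1).2
    rw [← hcardP, hP₀c, hBc] at h2
    exact Nat.le_of_mul_le_mul_right h2 Nat.card_pos
  have hP₀c' : P₀ ≤ 𝐂(P₀) := by
    have hsplit : ∀ t ∈ P₀, ∃ c ∈ B, ∃ w ∈ W, t = c * w := by
      intro t ht
      obtain ⟨b, hb, y, hy, rfl⟩ := hdec t ht
      set D := U ⊔ (B ⊓ Y) with hDdef
      have hyC : Subgroup.zpowers y ≤ 𝐂(D) := by
        rw [Subgroup.zpowers_le, hDdef, centralizer_sup]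
        refine ⟨hYQ hy, Subgroup.mem_centralizer_iff.2 fun c hc => ?_⟩
        have e : Commute c y := by
          have c1 : Commute c b := hAcomm c (hBA hc.1) b (hBA hb)
          have c2 : Commute c (b * y) := mem_centralizer_commute hc.2 ht.1
          have := c1.inv_right.mul_right c2
          rwa [inv_mul_cancel_left] at this
        exact e.eq
      have h1 := comm_sup hUB (zpowers_comm y) (Subgroup.le_centralizer_iff.1 hyC)
      have h2 := Subgroup.eq_of_le_of_card_ge (le_sup_left : D ≤ D ⊔ Subgroup.zpowers y)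
        ((card_le_maxAb hA h1).trans hUBc)
      have hyD : y ∈ D := h2 ▸ Subgroup.mem_sup_right (Subgroup.mem_zpowers y)
      obtain ⟨u, hu, c, hc, rfl⟩ := CfsgLib.Coprime.exists_mul_of_mem_sup
        ((hUT.trans ((le_centralizer_centralizer T).trans (cent_mono inf_le_right))).trans
          (Subgroup.centralizer_le_normalizer _)) hyD
      have hu' : u ∈ W := hTY ▸ ⟨hUT hu, by simpa using Y.mul_mem hy (Y.inv_mem hc.2)⟩
      refine ⟨b * c, B.mul_mem hb hc.1, u, hu', ?_⟩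
      rw [mul_assoc, (mem_centralizer_commute (hBX hc.1) hu').eq]
    intro t ht
    refine Subgroup.mem_centralizer_iff.2 fun t' ht' => ?_
    obtain ⟨c, hc, w, hw, rfl⟩ := hsplit t ht
    obtain ⟨c', hc', w', hw', rfl⟩ := hsplit t' ht'
    have k1 : Commute c c' := hAcomm c (hBA hc) c' (hBA hc')
    have k2 : Commute c w' := mem_centralizer_commute (hBX hc) hw'
    have k3 : Commute w c' := (mem_centralizer_commute (hBX hc') hw).symm
    have k4 : Commute w w' := mem_centralizer_commute (hU.2.1 (hWU' hw)) (hWU' hw')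
    exact (((k1.mul_right k2).mul_left (k3.mul_right k4)).eq).symm
  -- `P₀` is large, with `T = U P₀`
  have hCP : P₀ ⊔ Y ≤ 𝐂(P₀) := sup_le hP₀c' (cent_mono hP₀T)
  have hP₀l : IsCentralizerLarge P₀ := by
    refine large_of_ge (n := Nat.card U * Nat.card Q) hU.1 ?_
    refine Nat.le_of_mul_le_mul_right ?_ (Nat.card_pos (α := W))
    have e1 := (large_pair (large_inf hQl hTl) hYl).2.2.1
    rw [hQTU, show U ⊓ Y = W from le_antisymm (hTY ▸ inf_le_inf_right _ hUT) (le_inf hWU' (hTY ▸ inf_le_right))] at e1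
    have e2 : U ⊔ Y = Q := by
      refine le_antisymm (sup_le hU.2.1 hYQ) fun q hq => ?_
      have hqX : q ∈ Y ⊔ T := hXTY ▸ (cent_mono hWU' hq)
      obtain ⟨y, hy, t, ht, rfl⟩ := mem_sup_large hYl hTl hqX
      refine Subgroup.mul_mem _ (Subgroup.mem_sup_right hy) (Subgroup.mem_sup_left ?_)
      rw [← hQTU]
      exact ⟨by simpa using Q.mul_mem (Q.inv_mem (hYQ hy)) hq, ht⟩
    rw [e2] at e1
    have e4 := card_le_of_le' hCP
    rw [← hsupY] at ePY
    calc Nat.card U * Nat.card Q * Nat.card W = Nat.card U * (Nat.card Q * Nat.card W) := by ring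
      _ = Nat.card P₀ * (Nat.card P₀ * Nat.card Y) := by rw [e1, hcardP]
      _ = Nat.card P₀ * Nat.card ↥(P₀ ⊔ Y) * Nat.card W := by rw [← ePY]; ring
      _ ≤ _ := by gcongr
  have hUP : U ⊓ P₀ = W := le_antisymm (fun z hz => hP₀Q ▸ ⟨hz.2, hU.2.1 hz.1⟩) (le_inf hWU' hWP₀)
  have hTUP : U ⊔ P₀ = T := by
    refine Subgroup.eq_of_le_of_card_ge (sup_le hUT hP₀T) ?_
    have h1 := (large_pair hU.1 hP₀l).2.2.1
    rw [hUP, hcardP] at h1
    rw [hQTU] at hQT
    exact (Nat.eq_of_mul_eq_mul_right Nat.card_pos (h1.trans hQT.symm)).ge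
  -- bilinearity of commutators in `T`
  have hbl : ∀ s ∈ T, ∀ t ∈ T, ∀ r ∈ T, ⁅s * t, r⁆ = ⁅s, r⁆ * ⁅t, r⁆ ∧ ⁅r, s * t⁆ = ⁅r, s⁆ * ⁅r, t⁆ := by
    intro s hs t ht r hr
    have hsX : s ∈ 𝐂(W₀) := abelianAtomJoin_le hc (hTS hs)
    have h1 := commutator_abelianAtomJoin hl hc (hTS ht) (hTS hr)
    have h2 := commutator_abelianAtomJoin hl hc (hTS hs) (hTS hr)
    have h3 := commutator_abelianAtomJoin hl hc (hTS hr) (hTS ht)
    refine ⟨?_, ?_⟩
    · rw [commutatorElement_mul_left', (mem_centralizer_commute hsX h1).eq, mul_inv_cancel_right]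
      exact (mem_centralizer_commute (hc h1) h2).eq
    · rw [commutatorElement_mul_right', (mem_centralizer_commute hsX h3).eq, mul_inv_cancel_right]
  have hnorm : ∀ N : Subgroup G, W₀ ≤ N → N ≤ T → ∀ n ∈ N, ∀ t ∈ T, t * n * t⁻¹ ∈ N := by
    intro N hN hNT n hn t ht
    have h1 := hN (commutator_abelianAtomJoin hl hc (hTS ht) (hTS (hNT hn)))
    have h2 := N.mul_mem h1 hn
    rwa [commutatorElement_def, inv_mul_cancel_right] at h2
  -- the map `u ↦ u⁻¹ (a u a⁻¹)`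
  let x : G → G := fun u => u⁻¹ * (a * u * a⁻¹)
  have hxT : ∀ u ∈ T, x u ∈ T := fun u hu =>
    T.mul_mem (T.inv_mem hu) (by simpa [pow_one] using haT 1 (conj_mem_cj hu))
  have hW0P : W₀ ≤ P₀ := hW0W.trans hWP₀
  have hxmul : ∀ N : Subgroup G, W₀ ≤ N → ∀ u ∈ T, ∀ v ∈ T, ∃ w ∈ W₀, x (u * v) = x u * x v * w := by
    intro N hN u hu v hv
    have hw := commutator_abelianAtomJoin hl hc (hTS (T.inv_mem hv)) (hTS (hxT u hu))
    refine ⟨⁅v⁻¹, x u⁆, hw, ?_⟩
    have hxv : x v ∈ 𝐂(W₀) := abelianAtomJoin_le hc (hTS (hxT v hv))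
    have hxu : x u ∈ 𝐂(W₀) := abelianAtomJoin_le hc (hTS (hxT u hu))
    calc x (u * v) = ⁅v⁻¹, x u⁆ * (x u * x v) := by simp only [x, commutatorElement_def]; group
      _ = _ := (mem_centralizer_commute (Subgroup.mul_mem _ hxu hxv) hw).eq.symm
  let F : Subgroup G :=
    { carrier := {u | u ∈ U ∧ x u ∈ P₀}
      one_mem' := ⟨U.one_mem, by simp [x]⟩
      mul_mem' := fun {u v} hu hv => ⟨U.mul_mem hu.1 hv.1, by
        obtain ⟨w, hw, e⟩ := hxmul P₀ hW0P u (hUT hu.1) v (hUT hv.1)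
        rw [e]; exact P₀.mul_mem (P₀.mul_mem hu.2 hv.2) (hW0P hw)⟩
      inv_mem' := fun {u} hu => ⟨U.inv_mem hu.1, by
        obtain ⟨w, hw, e⟩ := hxmul P₀ hW0P u (hUT hu.1) u⁻¹ (hUT (U.inv_mem hu.1))
        have e' : x u⁻¹ = (x u)⁻¹ * w⁻¹ := by
          have e0 : x (u * u⁻¹) = 1 := by simp [x]
          rw [e0] at e
          calc x u⁻¹ = (x u)⁻¹ * (x u * x u⁻¹ * w) * w⁻¹ := by group
            _ = _ := by rw [← e]; group
        rw [e']; exact P₀.mul_mem (P₀.inv_mem hu.2) (P₀.inv_mem (hW0P hw))⟩ }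
  have hFU : F ≤ U := fun u hu => hu.1
  have hWF : W ≤ F := fun w hw => ⟨hWU' hw, hWP₀ (W.mul_mem (W.inv_mem hw) (by simpa [pow_one] using (haWk 1).le (conj_mem_cj hw)))⟩
  have hP₀n : (P₀.subgroupOf T).Normal := ⟨fun n hn t => hnorm P₀ hW0P hP₀T _ hn _ t.2⟩
  have hWn : (W.subgroupOf T).Normal := ⟨fun n hn t => hnorm W hW0W hWT _ hn _ t.2⟩
  let φ : ↥U →* ↥T ⧸ P₀.subgroupOf T := MonoidHom.mk'
    (fun u => QuotientGroup.mk ⟨x u, hxT u (hUT u.2)⟩) fun u v => by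
      obtain ⟨w, hw, e⟩ := hxmul P₀ hW0P u (hUT u.2) v (hUT v.2)
      rw [← QuotientGroup.mk_mul, QuotientGroup.eq_iff_div_mem, Subgroup.mem_subgroupOf]
      simp only [Subgroup.coe_div, Subgroup.coe_mul, div_eq_mul_inv]
      rw [e]
      exact hnorm P₀ hW0P hP₀T w (hW0P hw) _ (T.mul_mem (hxT u (hUT u.2)) (hxT v (hUT v.2)))
  let H : Subgroup G := ((φ.range).comap (QuotientGroup.mk' _)).map T.subtype
  have hHT : H ≤ T := Subgroup.map_subtype_le _
  have hxH : ∀ u ∈ U, x u ∈ H := fun u hu => ⟨⟨x u, hxT u (hUT hu)⟩, ⟨⟨u, hu⟩, rfl⟩, rfl⟩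
  have hPH : P₀ ≤ H := fun t ht => ⟨⟨t, hP₀T ht⟩, ⟨1, by
    rw [map_one]; exact ((QuotientGroup.eq_one_iff (⟨t, hP₀T ht⟩ : ↥T)).2 ht).symm⟩, rfl⟩
  have hHmem : ∀ h ∈ H, ∃ u ∈ U, ∃ q ∈ P₀, h = x u * q := by
    rintro _ ⟨h, ⟨u, hu⟩, rfl⟩
    have hu' : (QuotientGroup.mk (⟨x u, hxT u (hUT u.2)⟩ : ↥T) : ↥T ⧸ P₀.subgroupOf T) = QuotientGroup.mk h := hu
    have hm := QuotientGroup.eq.1 hu'
    rw [Subgroup.mem_subgroupOf] at hm
    exact ⟨u, u.2, _, hm, (mul_inv_cancel_left _ _).symm⟩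
  have hcardH : Nat.card H * Nat.card F = Nat.card U * Nat.card P₀ := by
    have h1 : Nat.card H = Nat.card (P₀.subgroupOf T) * Nat.card φ.range := by
      rw [Subgroup.card_subtype]
      exact QuotientGroup.card_preimage_mk (P₀.subgroupOf T) φ.range
    rw [show Nat.card (P₀.subgroupOf T) = Nat.card P₀ from CfsgLib.Coprime.card_subgroupOf hP₀T] at h1
    have hker : φ.ker = F.subgroupOf U := by
      ext u
      rw [MonoidHom.mem_ker, Subgroup.mem_subgroupOf]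
      exact (QuotientGroup.eq_one_iff _).trans ⟨fun h => ⟨u.2, h⟩, fun h => h.2⟩
    have h2 : Nat.card φ.range = F.relIndex U := by rw [← Subgroup.index_ker, hker]; rfl
    rw [h1, h2, ← CfsgLib.LocalEvenSix.card_mul_relIndex' hFU]; ring
  set I := U ⊓ H with hI
  have hHdec : H = I ⊔ P₀ := by
    refine le_antisymm (fun h hh => ?_) (sup_le inf_le_right hPH)
    obtain ⟨u, hu, q, hq, rfl⟩ := mem_sup_large hU.1 hP₀l (hTUP ▸ hHT hh : h ∈ U ⊔ P₀)
    exact Subgroup.mul_mem_sup ⟨hu, by simpa using H.mul_mem hh (H.inv_mem (hPH hq))⟩ hq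
  have hIP : Nat.card H * Nat.card W = Nat.card I * Nat.card P₀ := by
    have h1 := CfsgLib.Coprime.card_sup_mul_card_inf (H := I) (N := P₀) ?_
    · rw [← hHdec, inf_comm P₀ I, show I ⊓ P₀ = W from le_antisymm (hUP ▸ inf_le_inf_right _ inf_le_left)
        (le_inf (le_inf hWU' (hWP₀.trans hPH)) hWP₀)] at h1
      exact h1
    · intro i hi
      refine cj_eq_iff.1 (cj_eq_of_le ?_)
      rintro _ ⟨n, hn, rfl⟩
      exact hnorm P₀ hW0P hP₀T n hn i (hUT hi.1)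
  have hFI : Nat.card F * Nat.card I = Nat.card U * Nat.card W := by
    refine Nat.eq_of_mul_eq_mul_right (Nat.card_pos (α := P₀)) ?_
    calc Nat.card F * Nat.card I * Nat.card P₀ = Nat.card F * (Nat.card H * Nat.card W) := by rw [hIP]; ring
      _ = _ := by rw [← mul_assoc, mul_comm (Nat.card F), hcardH]; ring
  -- the subgroup `D` of values on `F`
  let ψ : ↥F →* ↥T ⧸ W.subgroupOf T := MonoidHom.mk'
    (fun u => QuotientGroup.mk ⟨x u, hxT u (hUT u.2.1)⟩) fun u v => by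
      obtain ⟨w, hw, e⟩ := hxmul W hW0W u (hUT u.2.1) v (hUT v.2.1)
      rw [← QuotientGroup.mk_mul, QuotientGroup.eq_iff_div_mem, Subgroup.mem_subgroupOf]
      simp only [Subgroup.coe_div, Subgroup.coe_mul, div_eq_mul_inv]
      rw [e]
      exact hnorm W hW0W hWT w (hW0W hw) _ (T.mul_mem (hxT u (hUT u.2.1)) (hxT v (hUT v.2.1)))
  let D : Subgroup G := ((ψ.range).comap (QuotientGroup.mk' _)).map T.subtype
  have hDmem : ∀ d ∈ D, ∃ f ∈ F, ∃ w ∈ W, d = x f * w := by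
    rintro _ ⟨d, ⟨u, hu⟩, rfl⟩
    have hu' : (QuotientGroup.mk (⟨x u, hxT u (hUT u.2.1)⟩ : ↥T) : ↥T ⧸ W.subgroupOf T) = QuotientGroup.mk d := hu
    have hm := QuotientGroup.eq.1 hu'
    rw [Subgroup.mem_subgroupOf] at hm
    exact ⟨u, u.2, _, hm, (mul_inv_cancel_left _ _).symm⟩
  have hDP : D ≤ P₀ := fun d hd => by
    obtain ⟨f, hf, w, hw, rfl⟩ := hDmem d hd
    exact P₀.mul_mem hf.2 (hWP₀ hw)
  have hDcard : Nat.card D = Nat.card F := by
    have h1 : Nat.card D = Nat.card (W.subgroupOf T) * Nat.card ψ.range := by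
      rw [Subgroup.card_subtype]
      exact QuotientGroup.card_preimage_mk (W.subgroupOf T) ψ.range
    rw [show Nat.card (W.subgroupOf T) = Nat.card W from CfsgLib.Coprime.card_subgroupOf hWT] at h1
    have hker : ψ.ker = W.subgroupOf F := by
      ext ⟨u, hu⟩
      rw [MonoidHom.mem_ker, Subgroup.mem_subgroupOf]
      refine (QuotientGroup.eq_one_iff _).trans ⟨fun h => ?_, fun h => ?_⟩
      · refine le_iInf (a := Subgroup.zpowers u) (fun k => (Subgroup.zpowers_le).2 ?_) (Subgroup.mem_zpowers u)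
        have hk : ∀ j : ℕ, u⁻¹ * (a ^ j * u * (a ^ j)⁻¹) ∈ W := by
          intro j
          induction j with
          | zero => simp
          | succ j ih =>
            have e : u⁻¹ * (a ^ (j + 1) * u * (a ^ (j + 1))⁻¹) =
                x u * (a * (u⁻¹ * (a ^ j * u * (a ^ j)⁻¹)) * a⁻¹) := by
              simp only [x, pow_succ']; group
            rw [e]
            exact W.mul_mem h (by simpa [pow_one] using (haWk 1).le (conj_mem_cj ih))
        obtain ⟨j, hj⟩ : ∃ j : ℕ, a ^ j = (a ^ k)⁻¹ :=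
          (isOfFinOrder_of_finite a).mem_powers_iff_mem_zpowers.2
            (Subgroup.inv_mem _ (Subgroup.pow_mem _ (Subgroup.mem_zpowers a) k))
        have h1 := hk j
        rw [hj, inv_inv] at h1
        show u ∈ cj (a ^ k) U
        rw [mem_cj]
        simpa using U.mul_mem hu.1 (hWU' h1)
      · exact W.mul_mem (W.inv_mem h) (by simpa [pow_one] using (haWk 1).le (conj_mem_cj h))
    have h2 : Nat.card ψ.range = W.relIndex F := by rw [← Subgroup.index_ker, hker]; rfl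
    rw [h1, h2, CfsgLib.LocalEvenSix.card_mul_relIndex' hWF]
  have hDI : ∀ d ∈ D, ∀ v ∈ I, Commute d v := by
    intro d hd v hv
    have hdP := hDP hd
    have hdT := hP₀T hdP
    obtain ⟨f, hf, w, hw, rfl⟩ := hDmem d hd
    obtain ⟨u, hu, q₀, hq₀, hv'⟩ := hHmem v hv.2
    set δ := x f
    set q := q₀⁻¹
    have hq : q ∈ P₀ := P₀.inv_mem hq₀
    have hxu : x u = v * q := by rw [hv']; exact (mul_inv_cancel_right _ _).symm
    have hvT := hUT hv.1
    have hfT := hUT hf.1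
    have huT := hUT hu
    have hδ : δ ∈ P₀ := hf.2
    have hδT := hP₀T hδ
    have hqT := hP₀T hq
    have hconj : ∀ s, a * s * a⁻¹ = s * x s := fun s => by simp [x]
    have c1 : ∀ s ∈ U, ∀ t ∈ U, ⁅s, t⁆ = 1 := fun s hs t ht =>
      commutatorElement_eq_one_iff_commute.2 (mem_centralizer_commute (hU.2.1 hs) ht)
    have c2 : ∀ s ∈ P₀, ∀ t ∈ P₀, ⁅s, t⁆ = 1 := fun s hs t ht =>
      commutatorElement_eq_one_iff_commute.2 (mem_centralizer_commute (hP₀c' hs) ht)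
    have c3 : ∀ s ∈ T, ∀ t ∈ W, ⁅s, t⁆ = 1 := fun s hs t ht =>
      commutatorElement_eq_one_iff_commute.2 (mem_centralizer_commute (hTX hs) ht)
    have hstar : ⁅f, q⁆ * ⁅δ, u⁆ * ⁅δ, v⁆ = 1 := by
      have h1 : ⁅f * δ, u * x u⁆ = 1 := by
        have := c1 f hf.1 u hu
        rw [← hconj f, ← hconj u, ← show MulAut.conj a ⁅f, u⁆ = ⁅a * f * a⁻¹, a * u * a⁻¹⁆ from map_commutatorElement _ _ _,
          this, map_one]
      rw [hxu, (hbl f hfT δ hδT _ (T.mul_mem huT (T.mul_mem hvT hqT))).1,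
        (hbl u huT (v * q) (T.mul_mem hvT hqT) f hfT).2, (hbl u huT (v * q) (T.mul_mem hvT hqT) δ hδT).2,
        (hbl v hvT q hqT f hfT).2, (hbl v hvT q hqT δ hδT).2, c1 f hf.1 u hu, c1 f hf.1 v hv.1, c2 δ hδ q hq] at h1
      simpa [mul_assoc] using h1
    have hfx : ∀ t ∈ P₀, ∃ w ∈ W, a * t * a⁻¹ = t * w := fun t ht =>
      ⟨t⁻¹ * (a * t * a⁻¹), by simpa [pow_one] using hfix 1 t ht, by group⟩
    have happ := congrArg (MulAut.conj a) hstar
    rw [map_mul, map_mul, map_one, map_commutatorElement, map_commutatorElement, map_commutatorElement] at happ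
    obtain ⟨wq, hwq, eq1⟩ := hfx q hq
    obtain ⟨wd, hwd, eq2⟩ := hfx δ hδ
    simp only [MulAut.conj_apply, eq1, eq2] at happ
    rw [hconj f, hconj u, hconj v, hxu] at happ
    have hwqT := hWT hwq
    have hwdT := hWT hwd
    have c3' : ∀ s ∈ T, ∀ t ∈ W, ⁅t, s⁆ = 1 := fun s hs t ht => by
      rw [← commutatorElement_inv, c3 s hs t ht, inv_one]
    rw [(hbl f hfT δ hδT _ (T.mul_mem hqT hwqT)).1, (hbl q hqT wq hwqT f hfT).2, (hbl q hqT wq hwqT δ hδT).2,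
      c3 f hfT wq hwq, c3 δ hδT wq hwq, c2 δ hδ q hq,
      (hbl δ hδT wd hwdT _ (T.mul_mem huT (T.mul_mem hvT hqT))).1,
      c3' _ (T.mul_mem huT (T.mul_mem hvT hqT)) wd hwd,
      (hbl u huT (v * q) (T.mul_mem hvT hqT) δ hδT).2, (hbl v hvT q hqT δ hδT).2, c2 δ hδ q hq] at happ
    simp only [mul_one, ← mul_assoc] at happ
    rw [hstar, one_mul] at happ
    -- the image of `[δ, v]` is trivial
    have h2 : MulAut.conj a ⁅δ, v⁆ = 1 := by
      rw [map_commutatorElement]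
      simp only [MulAut.conj_apply, eq2, hconj v]
      exact happ
    have h3 : ⁅δ, v⁆ = 1 := (map_eq_one_iff (MulAut.conj a) (MulAut.conj a).injective).1 h2
    exact (commutatorElement_eq_one_iff_commute.1 h3).mul_left
      ((mem_centralizer_commute (hTX hvT) hw).symm)
  have hHY : H ⊔ Y ≤ 𝐂(D) := by
    rw [hHdec]
    refine sup_le (sup_le ?_ (hP₀c'.trans (cent_mono hDP))) (cent_mono (hDP.trans hP₀T))
    exact fun v hv => Subgroup.mem_centralizer_iff.2 fun d hd => (hDI d hd v hv).eq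
  have hWH : W ≤ H := hWP₀.trans hPH
  have eHY := CfsgLib.Coprime.card_sup_mul_card_inf ((hHT.trans hTX).trans hXY)
  rw [inf_comm Y H] at eHY
  have hHYW : H ⊓ Y = W := le_antisymm (hTY ▸ inf_le_inf_right _ hHT) (le_inf hWH (hTY ▸ inf_le_right))
  rw [hHYW] at eHY
  have e5 : U ⊔ Y = Q → Nat.card Q * Nat.card W = Nat.card U * Nat.card Y := fun e => by
    have h := (large_pair hU.1 hYl).2.2.1
    rwa [e, show U ⊓ Y = W from le_antisymm (hTY ▸ inf_le_inf_right _ hUT) (le_inf hWU' (hTY ▸ inf_le_right))] at h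
  have hUY : U ⊔ Y = Q := by
    refine le_antisymm (sup_le hU.2.1 hYQ) fun q hq => ?_
    have hqX : q ∈ Y ⊔ T := hXTY ▸ (cent_mono hWU' hq)
    obtain ⟨y, hy, t, ht, rfl⟩ := mem_sup_large hYl hTl hqX
    refine Subgroup.mul_mem _ (Subgroup.mem_sup_right hy) (Subgroup.mem_sup_left ?_)
    rw [← hQTU]
    exact ⟨by simpa using Q.mul_mem (Q.inv_mem (hYQ hy)) hq, ht⟩
  have hge : Nat.card U * Nat.card Q ≤ Nat.card D * Nat.card ↥(H ⊔ Y) := by
    refine Nat.le_of_mul_le_mul_right ?_ (Nat.mul_pos (Nat.card_pos (α := W)) (Nat.card_pos (α := W)))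
    refine le_of_eq ?_
    calc Nat.card U * Nat.card Q * (Nat.card W * Nat.card W)
        = (Nat.card U * Nat.card W) * (Nat.card Q * Nat.card W) := by ring
      _ = Nat.card F * (Nat.card I * Nat.card P₀) * Nat.card Y := by rw [e5 hUY, ← hFI, hcardP]; ring
      _ = Nat.card F * (Nat.card H * Nat.card Y) * Nat.card W := by rw [← hIP]; ring
      _ = _ := by rw [← eHY, hDcard]; ring
  have hDl : IsCentralizerLarge D :=
    large_of_ge (n := Nat.card U * Nat.card Q) hU.1 (hge.trans (Nat.mul_le_mul_left _ (card_le_of_le' hHY)))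
  have hCD : H ⊔ Y = 𝐂(D) := by
    refine Subgroup.eq_of_le_of_card_ge hHY (Nat.le_of_mul_le_mul_left ?_ (Nat.card_pos (α := D)))
    calc Nat.card D * Nat.card 𝐂(D) = Nat.card U * Nat.card Q := large_eq hDl hU.1
      _ ≤ _ := hge
  have hIl : IsCentralizerLarge I := by
    have e : I = U ⊓ 𝐂(D) := by
      refine le_antisymm (le_inf inf_le_left (fun z hz => hCD ▸ Subgroup.mem_sup_left hz.2)) ?_
      rintro z ⟨hzU, hzC⟩
      refine ⟨hzU, ?_⟩
      replace hzC : z ∈ 𝐂(D) := hzC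
      rw [← hCD] at hzC
      obtain ⟨h, hh, y, hy, rfl⟩ := CfsgLib.Coprime.exists_mul_of_mem_sup ((hHT.trans hTX).trans hXY) hzC
      refine H.mul_mem hh (hWH (hTY ▸ ⟨?_, hy⟩))
      simpa using T.mul_mem (T.inv_mem (hHT hh)) (hUT hzU)
    rw [e]
    exact large_inf hU.1 (large_centralizer hDl).1
  -- complements above `W`
  have hWI : W ≤ I := le_inf hWU' hWH
  obtain ⟨M₀, hM₀, hWM₀, hM₀I, hsup⟩ := exists_complement hl hc hgen hIl (hW0W.trans hWI)
  set M := (M₀ ⊓ U) ⊔ W with hM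
  have hMl : IsCentralizerLarge M := large_sup (large_inf hM₀ hU.1) hWl
  have hMU : M ≤ U := sup_le inf_le_right hWU'
  have hMI : M ⊓ I ≤ W := by
    rintro z ⟨hzM, hzI⟩
    obtain ⟨m, hm, w, hw, rfl⟩ := mem_sup_large (large_inf hM₀ hU.1) hWl hzM
    have : m ∈ M₀ ⊓ I := ⟨hm.1, by simpa using I.mul_mem hzI (I.inv_mem (hWI hw))⟩
    exact W.mul_mem (hW0W (hM₀I ▸ this)) hw
  have hMinv : ∀ m ∈ M, x m ∈ M ⊔ P₀ := by
    intro m hm
    set E := P₀ ⊓ 𝐂(M) with hE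
    have hWE : W ≤ E := le_inf hWP₀ ((hWU'.trans hU.2.1).trans (cent_mono hMU))
    have hEl := large_inf hP₀l (large_centralizer hMl).1
    have haE : cj a E = E := by
      refine cj_eq_of_le ?_
      rintro _ ⟨t, ht, rfl⟩
      have h1 := E.mul_mem ht (hWE (by simpa [pow_one] using hfix 1 t ht.1))
      rwa [mul_inv_cancel_left] at h1
    have hP₀Yc : 𝐂(P₀) = P₀ ⊔ Y := by
      refine (Subgroup.eq_of_le_of_card_ge hCP ?_).symm
      refine Nat.le_of_mul_le_mul_left ?_ (Nat.card_pos (α := P₀))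
      rw [large_eq hP₀l hU.1]
      refine Nat.le_of_mul_le_mul_right ?_ (Nat.card_pos (α := W))
      rw [← hsupY] at ePY
      refine le_of_eq ?_
      calc Nat.card U * Nat.card Q * Nat.card W = Nat.card U * (Nat.card Q * Nat.card W) := by ring
        _ = Nat.card P₀ * (Nat.card P₀ * Nat.card Y) := by rw [e5 hUY, hcardP]
        _ = _ := by rw [← ePY]; ring
    have hCE : 𝐂(E) = (M ⊔ P₀) ⊔ Y := by
      rw [hE, centralizer_inf hP₀l (large_centralizer hMl).1, (large_centralizer hMl).2, hP₀Yc,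
        sup_comm M P₀, sup_right_comm]
    have hmE : m ∈ 𝐂(E) := hCE ▸ Subgroup.mem_sup_left (Subgroup.mem_sup_left hm)
    have h1 : x m ∈ 𝐂(E) := by
      refine Subgroup.mul_mem _ (Subgroup.inv_mem _ hmE) ?_
      have := conj_mem_cj (g := a) hmE
      rwa [cj_centralizer, haE] at this
    rw [hCE] at h1
    obtain ⟨h, hh, y, hy, e⟩ := CfsgLib.Coprime.exists_mul_of_mem_sup
      (((sup_le (hMU.trans hUX) hP₀X)).trans hXY) h1
    have hyW : y ∈ W := hTY ▸ ⟨by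
      have := T.mul_mem (T.inv_mem (sup_le (hMU.trans hUT) hP₀T hh)) (hxT m (hUT (hMU hm)))
      simpa [e] using this, hy⟩
    rw [e]
    exact Subgroup.mul_mem _ hh (Subgroup.mem_sup_right (hWP₀ hyW))
  have hxM : ∀ m ∈ M, x m ∈ P₀ := by
    intro m hm
    obtain ⟨m', hm', q, hq, e⟩ := mem_sup_large hMl hP₀l (hMinv m hm)
    have hm'I : m' ∈ I := ⟨hMU hm', by
      have := H.mul_mem (hxH m (hMU hm)) (H.inv_mem (hPH hq))
      simpa [e] using this⟩
    exact e ▸ P₀.mul_mem (hWP₀ (hMI ⟨hm', hm'I⟩)) hq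
  -- nilpotency
  have hnil : Group.IsNilpotent G := hG.isNilpotent
  have hUdec : ∀ u ∈ U, ∃ i ∈ I, ∃ m ∈ M, u = i * m := by
    intro u hu
    obtain ⟨i, hi, m, hm, e⟩ := mem_sup_large hIl hM₀ (hsup (hU.2.1.trans (cent_mono hWU) hu))
    exact ⟨i, hi, m, Subgroup.mem_sup_left ⟨hm, by simpa [e] using U.mul_mem (U.inv_mem hi.1) hu⟩, e⟩
  have hind : ∀ (k : ℕ), ∀ u ∈ U, ∃ g ∈ (⊤ : Subgroup G).lowerCentralSeries k, ∃ q ∈ P₀, x u = g * q := by
    intro k
    induction k with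
    | zero => exact fun u _ => ⟨x u, Subgroup.mem_top _, 1, P₀.one_mem, (mul_one _).symm⟩
    | succ k ih =>
      intro u hu
      obtain ⟨i, hi, m, hm, rfl⟩ := hUdec u hu
      obtain ⟨w, hw, e⟩ := hxmul P₀ hW0P i (hUT hi.1) m (hUT (hMU hm))
      obtain ⟨u', hu', q₁, hq₁, e₁⟩ := hHmem i hi.2
      obtain ⟨g, hg, q₂, hq₂, e₂⟩ := ih u' hu'
      have hi' : i = g * (q₂ * q₁) := by rw [e₁, e₂, mul_assoc]
      set r := q₂ * q₁ with hr
      have hrP : r ∈ P₀ := P₀.mul_mem hq₂ hq₁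
      have hxg : x g ∈ (⊤ : Subgroup G).lowerCentralSeries (k + 1) := by
        rw [show x g = ⁅g⁻¹, a⁆ by simp only [x, commutatorElement_def]; group]
        exact Subgroup.commutator_mem_commutator (Subgroup.inv_mem _ hg) (Subgroup.mem_top a)
      have hxr : x r ∈ P₀ := hWP₀ (by simpa [pow_one] using hfix 1 r hrP)
      have hn : ((⊤ : Subgroup G).lowerCentralSeries (k + 1)).Normal := inferInstance
      refine ⟨r⁻¹ * x g * r⁻¹⁻¹, hn.conj_mem _ hxg _, x r * x m * w,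
        P₀.mul_mem (P₀.mul_mem hxr (hxM m hm)) (hW0P hw), ?_⟩
      rw [e, hi']
      simp only [x]
      group
  refine ⟨P₀, hP₀l, hP₀c', hW0P, fun u hu => ?_⟩
  obtain ⟨n, hn⟩ := Subgroup.nilpotent_iff_lowerCentralSeries.1 hnil
  obtain ⟨g, hg, q, hq, e⟩ := hind n u hu
  rw [hn, Subgroup.mem_bot] at hg
  show x u ∈ P₀
  rw [e, hg, one_mul]
  exact hq

/-- Some minimal centrally large subgroup is normalized by the join of all of them and by `J(G)`. -/
theorem exists_minimalCL_normalized {p : ℕ} [Fact p.Prime] (hG : IsPGroup p G) :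
    ∃ Q : Subgroup G, IsMinimalCentrallyLarge Q ∧ thompsonSubgroupA G ≤ Subgroup.normalizer (Q : Set G) ∧
      minimalCentrallyLargeJoin G ≤ Subgroup.normalizer (Q : Set G) := by
  set K := minimalCentrallyLargeJoin G ⊔ thompsonSubgroupA G with hKdef
  have hK : IsCentrallyLarge K := cl_sup_thompson cl_minimalJoin
  obtain ⟨W₀, ⟨hl, hc, hKW⟩, hmax⟩ := (inferInstance : WellFoundedGT (Subgroup G)).wf.has_min
    {W : Subgroup G | IsCentralizerLarge W ∧ W ≤ 𝐂(W) ∧ K ≤ Subgroup.normalizer (W : Set G)}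
    ⟨𝐂(K), (large_centralizer (cl_large hK)).1, cl_centralizer_comm hK,
      fun g hg => cj_eq_iff.1 (cj_eq_of_le (by rw [cj_centralizer, cj_eq_iff.2 (Subgroup.le_normalizer hg)]))⟩
  have hmax' : ∀ W : Subgroup G, IsCentralizerLarge W → W ≤ 𝐂(W) → W₀ ≤ W →
      K ≤ Subgroup.normalizer (W : Set G) → W = W₀ := fun W h1 h2 h3 h4 => by
    by_contra hne
    exact hmax W ⟨h1, h2, h4⟩ (lt_of_le_of_ne h3 (Ne.symm hne))
  have hdone : IsMaxAbelianLarge W₀ → _ := fun h =>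
    have hn : K ≤ Subgroup.normalizer (𝐂(W₀) : Set G) := fun g hg =>
      cj_eq_iff.1 (by rw [cj_centralizer, cj_eq_iff.2 (hKW hg)])
    (⟨𝐂(W₀), minimalCL_of_maxAbelianLarge h, le_sup_right.trans hn, le_sup_left.trans hn⟩ :
      ∃ Q : Subgroup G, IsMinimalCentrallyLarge Q ∧ thompsonSubgroupA G ≤ Subgroup.normalizer (Q : Set G) ∧
        minimalCentrallyLargeJoin G ≤ Subgroup.normalizer (Q : Set G))
  by_cases hW₀ : IsMaxAbelianLarge W₀
  · exact hdone hW₀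
  exfalso
  have hgen := socle_eq hl hc hKW hmax'
  obtain ⟨U₁, hU₁, hWU₁⟩ := exists_maxAbelianLarge_ge hl hc
  obtain ⟨m₁, hm₁, hm₁W⟩ := SetLike.exists_of_lt (lt_of_le_of_ne hWU₁ fun h => hW₀ (h ▸ hU₁))
  have hnil : Group.IsNilpotent G := hG.isNilpotent
  classical
  have hex : ∃ i : ℕ, ∃ U : Subgroup G, IsMaxAbelianLarge U ∧ W₀ ≤ U ∧
      ∃ m ∈ U, m ∉ W₀ ∧ m ∈ Subgroup.upperCentralSeries G i := by
    obtain ⟨n, hn⟩ := Group.IsNilpotent.nilpotent G
    exact ⟨n, U₁, hU₁, hWU₁, m₁, hm₁, hm₁W, hn ▸ Subgroup.mem_top _⟩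
  set i := Nat.find hex
  obtain ⟨U, hU, hWU, m, hmU, hmW, hmi⟩ := Nat.find_spec hex
  have hi0 : i ≠ 0 := fun h => hmW <| by
    have : m ∈ Subgroup.upperCentralSeries G 0 := h ▸ hmi
    rw [Subgroup.upperCentralSeries_zero, Subgroup.mem_bot] at this
    exact this ▸ W₀.one_mem
  -- the stabilizer of the coset `m W₀`
  let St : Subgroup G :=
    { carrier := {g | g ∈ Subgroup.normalizer (W₀ : Set G) ∧ m⁻¹ * (g * m * g⁻¹) ∈ W₀}
      one_mem' := ⟨Subgroup.one_mem _, by simp⟩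
      mul_mem' := fun {g h} hg hh => ⟨Subgroup.mul_mem _ hg.1 hh.1, by
        have e : m⁻¹ * (g * h * m * (g * h)⁻¹) =
            m⁻¹ * (g * m * g⁻¹) * (g * (m⁻¹ * (h * m * h⁻¹)) * g⁻¹) := by group
        rw [e]
        exact W₀.mul_mem hg.2 ((cj_eq_iff.2 hg.1).le (conj_mem_cj hh.2))⟩
      inv_mem' := fun {g} hg => ⟨Subgroup.inv_mem _ hg.1, by
        have e : m⁻¹ * (g⁻¹ * m * g⁻¹⁻¹) = g⁻¹ * (m⁻¹ * (g * m * g⁻¹))⁻¹ * g⁻¹⁻¹ * 1 →
            m⁻¹ * (g⁻¹ * m * g⁻¹⁻¹) ∈ W₀ := fun e => by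
          rw [e, mul_one]
          exact (cj_eq_iff.2 (Subgroup.inv_mem _ hg.1)).le (conj_mem_cj (W₀.inv_mem hg.2))
        exact e (by group)⟩ }
  have hJ : thompsonSubgroupA G ≤ St := sSup_le fun A hA a ha => by
    have haK : a ∈ K := Subgroup.mem_sup_right ((le_sSup hA : A ≤ thompsonSubgroupA G) ha)
    refine ⟨hKW haK, ?_⟩
    obtain ⟨P₀, hP₀l, hP₀c, hWP₀, hx⟩ :=
      exists_abelianLarge_of_moves hG hl hc hgen hA ha (cj_eq_iff.2 (hKW haK)) hU hWU
    by_contra hnot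
    obtain ⟨U', hU', hP₀U'⟩ := exists_maxAbelianLarge_ge hP₀l hP₀c
    refine Nat.find_min hex (Nat.sub_one_lt hi0) ⟨U', hU', hWP₀.trans hP₀U', _, hP₀U' (hx m hmU), hnot, ?_⟩
    obtain ⟨j, hj⟩ := Nat.exists_eq_succ_of_ne_zero hi0
    have hj' : Nat.find hex - 1 = j := by
      show i - 1 = j
      omega
    rw [hj']
    have h1 : m ∈ Subgroup.upperCentralSeries G (j + 1) := by
      have : m ∈ Subgroup.upperCentralSeries G i := hmi
      rwa [hj] at this
    have h2 := (Subgroup.mem_upperCentralSeries_succ_iff).1 (Subgroup.inv_mem _ h1) a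
    simpa [mul_assoc, commutatorElement_def] using h2
  have hR : minimalCentrallyLargeJoin G ≤ St := sSup_le fun R hR r hr => by
    have hlR := cl_large hR.1
    have hS := minimalCL_of_maxAbelianLarge hU
    rw [← minimalCL_decomp hR hS.1] at hr
    obtain ⟨s, hs, v, hv, rfl⟩ := mem_sup_large (large_inf hlR (cl_large hS.1)) (large_centralizer hlR).1 hr
    have hsK : s ∈ K := Subgroup.mem_sup_left ((le_sSup hR : R ≤ minimalCentrallyLargeJoin G) hs.1)
    refine Subgroup.mul_mem _ ⟨hKW hsK, ?_⟩ (hJ ?_)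
    · rw [(mem_centralizer_commute hs.2 hmU).eq, mul_inv_cancel_right, inv_mul_cancel]
      exact W₀.one_mem
    · obtain ⟨A, hA⟩ := exists_maxAb G
      exact (le_sSup (maxAb_sup hR.1 hA).2.2.2 : _ ≤ thompsonSubgroupA G) (Subgroup.mem_sup_right hv)
  have hKSt : K ≤ St := sup_le hR hJ
  -- the least large subgroup containing `W₀` and `m`
  set L := sInf {R : Subgroup G | IsCentralizerLarge R ∧ W₀ ≤ R ∧ m ∈ R} with hL
  have hLl : IsCentralizerLarge L := large_sInf ⟨U, hU.1, hWU, hmU⟩ fun R hR => hR.1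
  have hLU : L ≤ U := sInf_le ⟨hU.1, hWU, hmU⟩
  have hWL : W₀ ≤ L := le_sInf fun R hR => hR.2.1
  have hmL : m ∈ L := by rw [hL, Subgroup.mem_sInf]; exact fun R hR => hR.2.2
  have hLn : K ≤ Subgroup.normalizer (L : Set G) := fun g hg => by
    have hg' : g⁻¹ ∈ St := St.inv_mem (hKSt hg)
    have h1 : L ≤ cj g⁻¹ L := by
      refine sInf_le ⟨large_cj _ hLl, ?_, ?_⟩
      · exact (cj_eq_iff.2 hg'.1).ge.trans (cj_le_cj hWL)
      · have h2 := L.mul_mem hmL (hWL (hKSt hg).2)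
        rw [mul_inv_cancel_left] at h2
        rw [mem_cj, inv_inv]
        exact h2
    have h3 := cj_le_cj (g := g) h1
    rw [cj_cj, mul_inv_cancel, cj_one] at h3
    exact cj_eq_iff.1 (cj_eq_of_le h3)
  have := hmax' L hLl (hLU.trans (hU.2.1.trans (cent_mono hLU))) hWL hLn
  exact hmW (this ▸ hmL)

end CfsgLib.ChermakDelgado
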